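import Cfsg.Agent.Lib.GW.Top
import Cfsg.Agent.Lib.GW.Dne.CountData
import Cfsg.Agent.Lib.GW.Dne.Components.Main
import Cfsg.Agent.Lib.GW.Dne.CoreFixedMain
import Cfsg.Agent.Lib.GW.Dne.OneComponent
import Cfsg.Agent.Lib.GW.Dne.HLemma
import Cfsg.Agent.Lib.GW.Dne.Linear
import Cfsg.Agent.Lib.GW.Dne.LinearTriple
import Cfsg.Agent.Lib.GW.Dne.NoFixedLinear
import Cfsg.Agent.Lib.GW.Dne.Exceptional.Main
import Cfsg.Agent.Lib.GW.Dne.Count
import Cfsg.Agent.Lib.GW.Dne.Mixed.Main
import Cfsg.Agent.Lib.GW.Dne.Mixed.Cubic.End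
import Cfsg.Agent.Lib.GW.Dne.SevenEnd

/-!
# The Gorenstein–Walter theorem

The minimal counterexample with four-groups having fixed points of odd order satisfies all the
interfaces, hence is `A₇`; the free case is `PSL(2, q)`.
-/

set_option autoImplicit false

namespace CfsgLib.GW.Final

universe u

/-- Only `A₇` has four-groups with fixed points of odd order in the minimal counterexample. -/
theorem dne (G : Type u) [Group G] [Finite G] : Dne.DneConclusion G := by
  intro σ
  have C : Dne.Components G := Dne.Comp.components σ Dne.countData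
  have hB : Dne.CoreFixed G := Dne.coreFixed_of_hyp σ
  have hL : Dne.NoFixedLinear G := Dne.noFixedLinear C hB Dne.noTriple Dne.noTripleTwo
  have hX : Dne.NoExceptional G := Dne.noExceptional C (Dne.oneComponent σ C)
  have hM : Dne.NoMixed G :=
    Dne.noMixed C hB (Dne.hLemma σ C) hL hX (Dne.lineCount C.countData) (Dne.cubicEnd C hL)
  exact Dne.dneConclusion C hB (Dne.hLemma σ C) hL hM Dne.sevenEnd σ

/-- The classification of perfect groups with dihedral Sylow `2`-subgroups. -/
theorem gwStatement : GWStatement.{u} :=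
  Top.gw_of_dne dne

end CfsgLib.GW.Final
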