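import Cfsg.Agent.Lib.PLocal.PStable
import Cfsg.Agent.Lib.PLocal.SLTwo.QdFree
import Cfsg.Agent.Lib.Core.SolvableStruct

/-!
# Glauberman's factorisation in groups without sections `Qd(p)`

* `centralizer_pCore_le_of_solvable`: a solvable centraliser of `O_p` lies in `O_p`
* `zj_factor`: `G = O_{p'}(G) N(Z(J(P)))`
-/

set_option autoImplicit false

namespace CfsgLib.GW

open Subgroup Cfsg CfsgLib.PLocal

variable {G : Type*} [Group G] [Finite G] {p : ℕ} [Fact p.Prime]

/-- A solvable centraliser of `O_p(G)` lies in `O_p(G)` when `O_{p'}(G) = 1`. -/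
theorem centralizer_pCore_le_of_solvable (h : pPrimeCore p G = ⊥)
    (hs : Group.IsSolvable (centralizer (pCore p G : Set G))) :
    centralizer (pCore p G : Set G) ≤ pCore p G := by
  haveI := hs
  haveI : (pCore p G).Normal := Core.normal_pCore p G
  set C := centralizer (pCore p G : Set G) with hC
  haveI : C.Normal := inferInstance
  have h1 : pPrimeCore p C = ⊥ := by
    have := Core.map_subtype_pPrimeCore_le (p := p) C
    rw [h, le_bot_iff] at this
    exact (map_eq_bot_iff_of_injective _ C.subtype_injective).1 this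
  have h2 := Core.centralizer_pCore_le_of_pPrimeCore_eq_bot (G := C) h1
  intro c hc
  refine Core.map_subtype_pCore_le C ⟨⟨c, hc⟩, h2 (mem_centralizer_iff.2 fun d hd => Subtype.ext ?_), rfl⟩
  exact mem_centralizer_iff.1 hc (d : G) (Core.map_subtype_pCore_le C ⟨d, hd, rfl⟩)

/-- `G = O_{p'}(G) N(Z(J(P)))` without sections `Qd(p)`. -/
theorem zj_factor (hp : p ≠ 2) (hfree : SLTwo.NoQd p G)
    (hs : Group.IsSolvable (centralizer (pCore p (G ⧸ pPrimeCore p G) : Set (G ⧸ pPrimeCore p G))))
    (P : Sylow p G) :
    pPrimeCore p G ⊔ normalizer (centerThompsonAOf (P : Subgroup G) : Set G) = ⊤ := by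
  set N := pPrimeCore p G with hN
  set π := QuotientGroup.mk' N with hπ
  have hsurj : Function.Surjective π := QuotientGroup.mk'_surjective N
  have hc := centralizer_pCore_le_of_solvable (Core.pPrimeCore_quotient_pPrimeCore p G) hs
  have hchar := zCore_characteristic hp (goodPred_abelian (G := G ⧸ N) p) hc (P.mapSurjective hsurj)
    (SLTwo.stableAt_of_noQd hp (SLTwo.noQd_of_surjective π hsurj hfree)
      ((P.mapSurjective hsurj : Sylow p (G ⧸ N)) : Subgroup (G ⧸ N)))
  rw [zCore_abelian_eq] at hchar
  haveI := hchar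
  have h1 : (centerThompsonAOf ((P.mapSurjective hsurj : Sylow p (G ⧸ N)) : Subgroup (G ⧸ N))).Normal :=
    inferInstance
  have h2 : (centerThompsonAOf (P : Subgroup G)).map π
      = centerThompsonAOf ((P : Subgroup G).map π) :=
    centerThompsonA_map π _ (by rw [QuotientGroup.ker_mk']; exact disjoint_pPrime P.2)
  have hZp : IsPGroup p ↥(centerThompsonAOf (P : Subgroup G)) := P.2.to_le (centerThompsonA_le _)
  have h3 := map_normalizer_eq N (Core.coprime_card_pPrimeCore p G) hZp
  rw [h2, show normalizer (centerThompsonAOf ((P : Subgroup G).map π) : Set (G ⧸ N)) = ⊤ from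
    normalizer_eq_top_iff.2 h1] at h3
  have h4 := congrArg (Subgroup.comap π) h3
  rw [comap_map_eq, QuotientGroup.ker_mk', comap_top, sup_comm] at h4
  exact h4

end CfsgLib.GW
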