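import Cfsg.Agent.Lib.GW.Basic
import Cfsg.Agent.Lib.ZStar.PrincipalBlock
import Cfsg.Agent.Lib.CharDegree.SmallDegrees.Prime
import Cfsg.Agent.S4479
import Cfsg.Agent.S4481
import Cfsg.Agent.S4482
import Mathlib.RingTheory.RootsOfUnity.Complex

/-!
# Bounds from the principal 2-block order formulas

For a group with one class of involutions and dihedral Sylow 2-subgroups the order is an explicit
function of centraliser orders times a factor confined to a short interval.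
-/

set_option autoImplicit false

namespace CfsgLib.GW

open Subgroup DihedralGroup Cfsg
open CfsgLib.TwoGroups CfsgLib.TwoGroups.Dihedral
open CfsgLib.Blocks CfsgLib.Char

universe u

theorem two_pos_ge {x y z : ℚ} (hx : 1 ≤ x) (hy : 1 ≤ y) (hz : z = 1 + x + y) :
    3 / 8 ≤ x * y * z / ((x + 1) * (y + 1) * (z - 1)) := by
  subst hz
  rw [le_div_iff₀ (by ring_nf; positivity)]
  nlinarith [mul_nonneg (sub_nonneg.2 hx) (sub_nonneg.2 hy), mul_nonneg (mul_nonneg (sub_nonneg.2 hx) (sub_nonneg.2 hy)) (add_nonneg (sub_nonneg.2 hx) (sub_nonneg.2 hy))]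

theorem one_pos_ge {x y z : ℚ} (hy : 3 ≤ y) (hz : 3 ≤ z) (hx : x = y + z - 1) :
    3 / 8 ≤ x * y * z / ((x + 1) * (y - 1) * (z - 1)) := by
  subst hx
  have h1 : 0 < y - 1 := by linarith
  have h2 : 0 < z - 1 := by linarith
  rw [le_div_iff₀ (mul_pos (mul_pos (by linarith) h1) h2)]
  nlinarith [mul_nonneg (sub_nonneg.2 hy) (sub_nonneg.2 hz), mul_nonneg (mul_nonneg (sub_nonneg.2 hy) (sub_nonneg.2 hz)) (add_nonneg (sub_nonneg.2 hy) (sub_nonneg.2 hz))]

theorem two_pos_le {x y z : ℚ} (hx : 1 ≤ x) (hy : 1 ≤ y) (hz : z = 1 + x + y) :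
    x * y * z / ((x + 1) * (y + 1) * (z - 1)) ≤ 15 / 8 := by
  subst hz
  rw [div_le_iff₀ (mul_pos (mul_pos (by linarith) (by linarith)) (by linarith))]
  nlinarith [mul_nonneg (sub_nonneg.2 hx) (sub_nonneg.2 hy), mul_nonneg (mul_nonneg (sub_nonneg.2 hx) (sub_nonneg.2 hy)) (add_nonneg (sub_nonneg.2 hx) (sub_nonneg.2 hy))]

theorem one_pos_le {x y z : ℚ} (hy : 3 ≤ y) (hz : 3 ≤ z) (hx : x = y + z - 1) :
    x * y * z / ((x + 1) * (y - 1) * (z - 1)) ≤ 15 / 8 := by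
  subst hx
  have h1 : 0 < y - 1 := by linarith
  have h2 : 0 < z - 1 := by linarith
  rw [div_le_iff₀ (mul_pos (mul_pos (by linarith) h1) h2)]
  nlinarith [mul_nonneg (sub_nonneg.2 hy) (sub_nonneg.2 hz), mul_nonneg (mul_nonneg (sub_nonneg.2 hy) (sub_nonneg.2 hz)) (add_nonneg (sub_nonneg.2 hy) (sub_nonneg.2 hz))]

/-- The range of `α`, over all sign patterns. -/
theorem alpha_bounds {x₁ x₂ x₃ : ℕ} {e₁ e₂ e₃ : ℤ} (h1 : e₁ = 1 ∨ e₁ = -1) (h2 : e₂ = 1 ∨ e₂ = -1)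
    (h3 : e₃ = 1 ∨ e₃ = -1) (p1 : 0 < x₁) (p2 : 0 < x₂) (p3 : 0 < x₃)
    (d1 : (4 : ℤ) ∣ (x₁ : ℤ) - e₁) (d2 : (4 : ℤ) ∣ (x₂ : ℤ) - e₂) (d3 : (4 : ℤ) ∣ (x₃ : ℤ) - e₃)
    (hs : 1 + e₁ * (x₁ : ℤ) + e₂ * x₂ + e₃ * x₃ = 0) :
    let α : ℚ := (x₁ : ℚ) * x₂ * x₃ / (((x₁ : ℚ) + e₁) * ((x₂ : ℚ) + e₂) * ((x₃ : ℚ) + e₃))
    3 / 8 ≤ α ∧ α ≤ 15 / 8 := by
  intro α
  have hsq : (1 : ℚ) + e₁ * x₁ + e₂ * x₂ + e₃ * x₃ = 0 := by exact_mod_cast hs
  have hlow : ∀ {x : ℕ} {e : ℤ}, e = -1 → 0 < x → (4 : ℤ) ∣ (x : ℤ) - e → (3 : ℚ) ≤ x := by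
    intro x e he hx hd
    have : 3 ≤ x := by obtain ⟨k, hk⟩ := hd; subst he; omega
    exact_mod_cast this
  have hone : ∀ {x : ℕ}, 0 < x → (1 : ℚ) ≤ x := fun hx => by exact_mod_cast hx
  rcases h1 with rfl | rfl <;> rcases h2 with rfl | rfl <;> rcases h3 with rfl | rfl <;>
    push_cast at hsq
  · exfalso; have := hone p1; have := hone p2; have := hone p3; linarith
  · have e : α = (x₁ : ℚ) * x₂ * x₃ / ((x₁ + 1) * (x₂ + 1) * (x₃ - 1)) := by simp [α, sub_eq_add_neg]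
    rw [e]
    exact ⟨two_pos_ge (hone p1) (hone p2) (by linarith),
      two_pos_le (hone p1) (hone p2) (by linarith)⟩
  · have e : α = (x₁ : ℚ) * x₃ * x₂ / ((x₁ + 1) * (x₃ + 1) * (x₂ - 1)) := by
      simp only [α]; push_cast; ring
    rw [e]
    exact ⟨two_pos_ge (hone p1) (hone p3) (by linarith),
      two_pos_le (hone p1) (hone p3) (by linarith)⟩
  · have e : α = (x₁ : ℚ) * x₂ * x₃ / ((x₁ + 1) * (x₂ - 1) * (x₃ - 1)) := by simp [α, sub_eq_add_neg]
    rw [e]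
    exact ⟨one_pos_ge (hlow rfl p2 d2) (hlow rfl p3 d3) (by linarith),
      one_pos_le (hlow rfl p2 d2) (hlow rfl p3 d3) (by linarith)⟩
  · have e : α = (x₂ : ℚ) * x₃ * x₁ / ((x₂ + 1) * (x₃ + 1) * (x₁ - 1)) := by
      simp only [α]; push_cast; ring
    rw [e]
    exact ⟨two_pos_ge (hone p2) (hone p3) (by linarith),
      two_pos_le (hone p2) (hone p3) (by linarith)⟩
  · have e : α = (x₂ : ℚ) * x₁ * x₃ / ((x₂ + 1) * (x₁ - 1) * (x₃ - 1)) := by
      simp only [α]; push_cast; ring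
    rw [e]
    exact ⟨one_pos_ge (hlow rfl p1 d1) (hlow rfl p3 d3) (by linarith),
      one_pos_le (hlow rfl p1 d1) (hlow rfl p3 d3) (by linarith)⟩
  · have e : α = (x₃ : ℚ) * x₁ * x₂ / ((x₃ + 1) * (x₁ - 1) * (x₂ - 1)) := by
      simp only [α]; push_cast; ring
    rw [e]
    exact ⟨one_pos_ge (hlow rfl p1 d1) (hlow rfl p2 d2) (by linarith),
      one_pos_le (hlow rfl p1 d1) (hlow rfl p2 d2) (by linarith)⟩
  · exfalso
    have := hlow rfl p1 d1; have := hlow rfl p2 d2; have := hlow rfl p3 d3; linarith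

variable {H : Type u} [Group H] [Finite H] {n : ℕ} {S : Sylow 2 H} {f : DihedralGroup (2 ^ n) →* H}

/-- Groups with a Klein four Sylow 2-subgroup. -/
theorem klein_bounds_all (hf : Function.Injective f) (hS : f.range = (S : Subgroup H)) (hn : n = 1)
    (hone : ∀ a b : H, orderOf a = 2 → orderOf b = 2 → IsConj a b)
    (M : Ideal AlgInt) (hM : IsPModular 2 M) :
    ∃ α : ℚ, (Nat.card H : ℚ) = 8 * α *
      (Nat.card (centralizer ({f (r (half n))} : Set H)) : ℚ) ^ 3 /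
        (Nat.card (centralizer ((S : Subgroup H) : Set H)) : ℚ) ^ 2 ∧
      3 / 8 ≤ α ∧ α ≤ 15 / 8 := by
  classical
  subst hn
  haveI : M.IsPrime := hM.2.1.isPrime
  have : Fact (Nat.Prime 2) := ⟨Nat.prime_two⟩
  have := Fintype.ofFinite H
  have := Fintype.ofFinite (IrrCharacter H)
  set z := f (r (half 1)) with hz
  have hzo : orderOf z = 2 := orderOf_half hf le_rfl
  have hzS : z ∈ (S : Subgroup H) := hS ▸ ⟨_, rfl⟩
  have hcard : Nat.card (S : Subgroup H) = 4 := by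
    rw [← Nat.card_congr (sylowEquiv hf hS).symm.toEquiv, DihedralGroup.nat_card]
    norm_num
  obtain ⟨g₀, hg₀, hG⟩ : ∃ g₀, Odd g₀ ∧ Nat.card H = 4 * g₀ :=
    ⟨(S : Subgroup H).index, Nat.not_even_iff_odd.1 fun h => S.not_dvd_index h.two_dvd,
      by rw [← hcard, card_mul_index]⟩
  have hnc : ¬ ∃ N : Subgroup H, N.Normal ∧ Nat.card N = g₀ := by
    rintro ⟨N, hN, hNc⟩
    have hidx : N.index = 4 := by
      have h := card_mul_index N
      rw [hNc, hG] at h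
      exact Nat.eq_of_mul_eq_mul_left hg₀.pos (h.trans (mul_comm _ _))
    obtain ⟨T, hT⟩ := exists_index_two_of_complement hf hS le_rfl
      (CfsgLib.Transfer.hasNormalPComplement_iff_exists.2 ⟨N, hN,
        by rw [hNc]; exact Nat.coprime_two_right.2 hg₀,
        IsPGroup.of_card (n := 2) (by rw [← Subgroup.index_eq_card, hidx]; norm_num)⟩)
    exact index_ne_two_of_all_conj hf hS le_rfl hone T hT
  obtain ⟨hPK, -⟩ := klein_of_no_complement hg₀ hG hnc S
  obtain ⟨hk4, hsign⟩ := principal_signs S hPK hone hM hzS hzo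
  set B := principalBlock M H with hB
  have ht : trivChar H ∈ B := trivChar_mem_principalBlock
  have h3 : (B \ {trivChar H}).ncard = 3 := by
    rw [Set.ncard_sdiff_singleton_of_mem ht, ← Nat.card_coe_set_eq, hk4]
  obtain ⟨χ₁, χ₂, χ₃, h12, h13, h23, hB3⟩ := Set.ncard_eq_three.1 h3
  have hmem : ∀ χ, χ ∈ ({χ₁, χ₂, χ₃} : Set (IrrCharacter H)) → χ ∈ B ∧ χ ≠ trivChar H := by
    intro χ h; rw [← hB3] at h; exact ⟨h.1, h.2⟩
  obtain ⟨hb1, ht1⟩ := hmem χ₁ (by simp)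
  obtain ⟨hb2, ht2⟩ := hmem χ₂ (by simp)
  obtain ⟨hb3, ht3⟩ := hmem χ₃ (by simp)
  obtain ⟨e₁, he₁, hv₁, hd₁⟩ := hsign χ₁ hb1
  obtain ⟨e₂, he₂, hv₂, hd₂⟩ := hsign χ₂ hb2
  obtain ⟨e₃, he₃, hv₃, hd₃⟩ := hsign χ₃ hb3
  have hBset : B = {χ : IrrCharacter H | (χ : H → ℂ) = (fun _ => 1) ∨ χ = χ₁ ∨ χ = χ₂ ∨ χ = χ₃} := by
    ext χ
    have hiff : ((χ : H → ℂ) = fun _ => 1) ↔ χ = trivChar H :=
      ⟨fun h => Subtype.ext h, fun h => by rw [h]; rfl⟩
    rw [Set.mem_setOf_eq, hiff]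
    constructor
    · intro h
      by_cases hχ : χ = trivChar H
      · exact Or.inl hχ
      · have h' : χ ∈ B \ {trivChar H} := ⟨h, hχ⟩
        rw [hB3] at h'
        simpa using Or.inr h'
    · rintro (rfl | rfl | rfl | rfl) <;> assumption
  have hne : ∀ χ : IrrCharacter H, χ ≠ trivChar H → (χ : H → ℂ) ≠ fun _ => 1 :=
    fun χ h e => h (Subtype.ext e)
  have hform := Cfsg.Agent.S4479.result M hM g₀ hg₀ hG hnc S z hzS hzo χ₁ χ₂ χ₃ e₁ e₂ e₃ hBset
    ⟨hne _ ht1, hne _ ht2, hne _ ht3, h12, h13, h23⟩ ⟨he₁, he₂, he₃⟩ ⟨hv₁, hv₂, hv₃⟩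
  have horth : 1 + e₁ * (charDegree (χ₁ : H → ℂ) : ℤ) + e₂ * (charDegree (χ₂ : H → ℂ) : ℤ) +
      e₃ * (charDegree (χ₃ : H → ℂ) : ℤ) = 0 := by
    have h := sum_block_regular_singular hM (isPBlock_principalBlock (M := M) (G := H)) (x := (1 : H))
      (y := z) (by simp) (by rw [hzo])
    have hA : (Set.toFinite (principalBlock M H)).toFinset = {trivChar H, χ₁, χ₂, χ₃} := by
      ext χ
      rw [Set.Finite.mem_toFinset, ← hB, hBset, Set.mem_setOf_eq]
      have : ((χ : H → ℂ) = fun _ => 1) ↔ χ = trivChar H :=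
        ⟨fun h => Subtype.ext h, fun h => by rw [h]; rfl⟩
      simp [this]
    rw [finsum_mem_eq_finite_toFinset_sum _ (Set.toFinite _), hA,
      Finset.sum_insert (by simp [Ne.symm ht1, Ne.symm ht2, Ne.symm ht3]),
      Finset.sum_insert (by simp [h12, h13]), Finset.sum_pair h23,
      CfsgLib.Char.trivChar_apply, CfsgLib.Char.trivChar_apply, apply_one_eq_charDegree,
      apply_one_eq_charDegree, apply_one_eq_charDegree, hv₁, hv₂, hv₃] at h
    have h' : ((1 + e₁ * (charDegree (χ₁ : H → ℂ) : ℤ) + e₂ * (charDegree (χ₂ : H → ℂ) : ℤ) +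
        e₃ * (charDegree (χ₃ : H → ℂ) : ℤ) : ℤ) : ℂ) = ((0 : ℤ) : ℂ) := by
      push_cast
      linear_combination h
    exact_mod_cast h'
  obtain ⟨hlo, hhi⟩ := alpha_bounds he₁ he₂ he₃ (charDegree_pos χ₁) (charDegree_pos χ₂)
    (charDegree_pos χ₃) hd₁ hd₂ hd₃ horth
  exact ⟨_, hform, hlo, hhi⟩

/-- Simple groups with a Klein four Sylow 2-subgroup. -/
theorem klein_bounds (hf : Function.Injective f) (hS : f.range = (S : Subgroup H)) (hn : n = 1)
    (hone : ∀ a b : H, orderOf a = 2 → orderOf b = 2 → IsConj a b)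
    (M : Ideal AlgInt) (hM : IsPModular 2 M) :
    ∃ α : ℚ, (Nat.card H : ℚ) = 8 * α *
      (Nat.card (centralizer ({f (r (half n))} : Set H)) : ℚ) ^ 3 /
        (Nat.card (centralizer ((S : Subgroup H) : Set H)) : ℚ) ^ 2 ∧
      3 / 8 ≤ α ∧ (IsSimpleGroup H → α ≤ 15 / 8) := by
  obtain ⟨α, hα, hlo, hhi⟩ := klein_bounds_all hf hS hn hone M hM
  exact ⟨α, hα, hlo, fun _ => hhi⟩

/-- A character constant off the identity of a cyclic subgroup has congruent degree. -/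
theorem four_dvd_of_constant [Fintype H] (C : Subgroup H) (hC : 4 ∣ Nat.card C) (χ : IrrCharacter H)
    {k : ℤ} (hval : ∀ h ∈ C, h ≠ 1 → (χ : H → ℂ) h = (k : ℂ)) :
    (4 : ℤ) ∣ (charDegree (χ : H → ℂ) : ℤ) - k := by
  classical
  have := Fintype.ofFinite C
  have hres : IsCharacter C (fun h : C => (χ : H → ℂ) h) :=
    Char.IsChar.restrict _ (Char.IsIrr.isCharacter χ.2)
  obtain ⟨m, hm⟩ := Char.IsChar.classInner_eq_natCast hres
    (Char.IsIrr.isCharacter (Char.trivChar C).2)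
  rw [classInner, ← Finset.add_sum_erase Finset.univ _ (Finset.mem_univ 1),
    Finset.sum_congr rfl (g := fun _ => (k : ℂ)) fun h hh => by
      rw [hval h h.2 fun e => Finset.ne_of_mem_erase hh (Subtype.ext e), Char.trivChar_apply, map_one,
        mul_one],
    Finset.sum_const, Finset.card_erase_of_mem (Finset.mem_univ _), Finset.card_univ,
    ← Nat.card_eq_fintype_card, Char.trivChar_apply, map_one, mul_one, OneMemClass.coe_one,
    apply_one_eq_charDegree, nsmul_eq_mul, inv_mul_eq_iff_eq_mul₀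
      (Nat.cast_ne_zero.2 Nat.card_pos.ne'), Nat.cast_sub Nat.card_pos] at hm
  obtain ⟨q, hq⟩ := hC
  refine ⟨(q : ℤ) * ((m : ℤ) - k), ?_⟩
  have h4 : ((charDegree (χ : H → ℂ) : ℤ) : ℂ) - (k : ℂ) =
      ((4 * ((q : ℤ) * ((m : ℤ) - k)) : ℤ) : ℂ) := by
    rw [hq] at hm
    push_cast at hm ⊢
    linear_combination hm
  exact_mod_cast h4

/-- Groups with a dihedral Sylow 2-subgroup of order at least eight. -/
theorem dihedral_bounds (hf : Function.Injective f) (hS : f.range = (S : Subgroup H)) (hn : 2 ≤ n)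
    (hone : ∀ a b : H, orderOf a = 2 → orderOf b = 2 → IsConj a b)
    (M : Ideal AlgInt) (hM : IsPModular 2 M) :
    ∃ K : ℚ, (Nat.card H : ℚ) = 2 * K *
      (Nat.card (centralizer ({f (r (half n))} : Set H)) : ℚ) ^ 3 *
        (1 / (Nat.card (centralizer ({f (r (half n)), f (sr 0)} : Set H)) : ℚ) +
          1 / (Nat.card (centralizer ({f (r (half n)), f (r 1) * f (sr 0)} : Set H)) : ℚ)) ^ 2 ∧
      3 / 8 ≤ K ∧ (IsSimpleGroup H → K ≤ 15 / 8) := by
  classical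
  haveI : NeZero (2 ^ n) := ⟨pow_ne_zero _ two_ne_zero⟩
  have := Fintype.ofFinite H
  have hn1 : 1 ≤ n := le_trans one_le_two hn
  have hn' : n + 1 - 1 = n := by omega
  have hn'' : n + 1 - 2 = n - 1 := by omega
  have hpow : f (r 1) ^ (2 ^ (n + 1 - 2)) = f (r (half n)) := by
    rw [← map_pow, hn'', DihedralGroup.r_one_pow]
    rfl
  have hσo : orderOf (f (r 1)) = 2 ^ (n + 1 - 1) := by
    rw [orderOf_injective f hf, DihedralGroup.orderOf_r_one, hn']
  have hgen : closure ({f (r 1), f (sr 0)} : Set H) = (S : Subgroup H) := by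
    refine le_antisymm ((closure_le _).2 ?_) ?_
    · rw [← hS]
      simp [Set.insert_subset_iff]
    · rw [← hS]
      rintro _ ⟨a, rfl⟩
      have h1 : ∀ i : ZMod (2 ^ n), f (r i) ∈ closure ({f (r 1), f (sr 0)} : Set H) := by
        intro i
        have : (r i : DihedralGroup (2 ^ n)) = r 1 ^ i.val := by
          rw [DihedralGroup.r_one_pow, ZMod.natCast_zmod_val]
        rw [this, map_pow]
        exact pow_mem (subset_closure (by simp)) _
      rcases a with i | i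
      · exact h1 i
      · rw [show (sr i : DihedralGroup (2 ^ n)) = sr 0 * r i by rw [sr_mul_r, zero_add], map_mul]
        exact mul_mem (subset_closure (by simp)) (h1 i)
  have hrel : f (sr 0) * f (r 1) * (f (sr 0))⁻¹ = (f (r 1))⁻¹ := by
    rw [← map_inv, ← map_inv, ← map_mul, ← map_mul]
    congr 1
    rw [inv_sr, inv_r, sr_mul_r, sr_mul_sr]
    congr 1
    ring
  have hτo : orderOf (f (sr 0)) = 2 := by rw [orderOf_injective f hf, orderOf_sr]
  have hconj : IsConj (f (r 1) ^ (2 ^ (n + 1 - 2))) (f (sr 0)) ∧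
      IsConj (f (r 1) ^ (2 ^ (n + 1 - 2))) (f (r 1) * f (sr 0)) := by
    rw [hpow]
    refine ⟨hone _ _ (orderOf_half hf hn1) hτo, hone _ _ (orderOf_half hf hn1) ?_⟩
    rw [← map_mul, orderOf_injective f hf, r_mul_sr, orderOf_sr]
  have hmem : ∀ a, f a ∈ (S : Subgroup H) := fun a => hS ▸ ⟨a, rfl⟩
  obtain ⟨-, χ₁, χ₂, χ₃, χ', δ₁, δ₂, δ₃, hδ₁, -, -, -, h1, -, -, -, -, -, -, hB, hval, -⟩ :=
    Cfsg.Agent.S4481.result (G := H) M hM (n + 1) (by omega) S
      ⟨by rw [hn']; exact (sylowEquiv hf hS)⟩ (f (r 1)) (hmem _) hσo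
      (Complex.exp (2 * Real.pi * Complex.I / ((2 ^ (n + 1 - 1) : ℕ) : ℂ)))
      (Complex.isPrimitiveRoot_exp _ (pow_ne_zero _ two_ne_zero))
  have hχB : χ₁ ∈ principalBlock M H := by rw [hB]; exact Or.inr (Or.inl rfl)
  have hv : ∀ l : ℕ, 0 < l → l < 2 ^ (n + 1 - 1) → (χ₁ : H → ℂ) (f (r 1) ^ l) = δ₁ :=
    fun l h h' => (hval l h h').1
  obtain ⟨hne, hform⟩ := Cfsg.Agent.S4482.result M hM (n + 1) (by omega) S (f (r 1)) (f (sr 0))
    (hmem _) (hmem _) hσo hτo hrel hgen hconj χ₁ hχB h1 δ₁ hδ₁ hv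
  rw [hpow] at hform
  have hd : (4 : ℤ) ∣ (charDegree (χ₁ : H → ℂ) : ℤ) - δ₁ := by
    refine four_dvd_of_constant (zpowers (f (r 1))) ?_ χ₁ fun h hh h1 => ?_
    · rw [Nat.card_zpowers, hσo, hn']
      exact Dvd.intro (2 ^ (n - 2)) (by rw [show (4 : ℕ) = 2 ^ 2 by norm_num, ← pow_add]; congr 1; omega)
    · rw [← mem_powers_iff_mem_zpowers] at hh
      obtain ⟨l, rfl⟩ := hh
      have h2 := pow_mod_orderOf (f (r 1)) l
      rw [hσo] at h2
      simp only at h1 ⊢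
      rw [← h2] at h1 ⊢
      refine hv _ (Nat.pos_of_ne_zero fun e => h1 (by rw [e, pow_zero])) (Nat.mod_lt _ (by positivity))
  set x := charDegree (χ₁ : H → ℂ) with hx
  have hx0 : 0 < x := charDegree_pos χ₁
  have hq : ((x : ℚ) - δ₁) ≠ 0 := by
    intro e
    exact hne (by exact_mod_cast sub_eq_zero.1 e)
  refine ⟨(x : ℚ) * ((x : ℚ) + δ₁) / ((x : ℚ) - δ₁) ^ 2, ?_, ?_, fun hsimple => ?_⟩
  · field_simp at hform ⊢
    linear_combination hform
  · rcases hδ₁ with rfl | rfl <;> push_cast at hq ⊢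
    · have : (1 : ℚ) ≤ x := by exact_mod_cast hx0
      rw [le_div_iff₀ (by positivity)]
      nlinarith
    · have : 3 ≤ x := by obtain ⟨k, hk⟩ := hd; omega
      have : (3 : ℚ) ≤ x := by exact_mod_cast this
      rw [le_div_iff₀ (by positivity)]
      nlinarith [mul_nonneg (sub_nonneg.2 this) (sub_nonneg.2 this)]
  · have hx1 : x ≠ 1 := by
      intro e
      have hnc' : ∃ a b : H, a * b ≠ b * a := by
        refine ⟨f (sr 0), f (r 1), fun e => ?_⟩
        rw [← map_mul, ← map_mul, sr_mul_r, r_mul_sr] at e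
        have e' := sr.inj (hf e)
        have h2 : ((2 : ℕ) : ZMod (2 ^ n)) = 0 := by push_cast; linear_combination e'
        rw [ZMod.natCast_eq_zero_iff] at h2
        have := Nat.le_of_dvd two_pos h2
        have : 4 ≤ 2 ^ n := le_trans (by norm_num) (Nat.pow_le_pow_right two_pos hn)
        omega
      exact h1 (congrArg Subtype.val
        (CfsgLib.CharDegree.SmallPrime.eq_trivChar_of_degree_one hnc' χ₁ e))
    rcases hδ₁ with rfl | rfl <;> push_cast at hq ⊢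
    · have : 5 ≤ x := by obtain ⟨k, hk⟩ := hd; omega
      have : (5 : ℚ) ≤ x := by exact_mod_cast this
      rw [div_le_iff₀ (by positivity)]
      nlinarith [mul_nonneg (sub_nonneg.2 this) (sub_nonneg.2 this)]
    · have : (2 : ℚ) ≤ x := by
        have : 2 ≤ x := by omega
        exact_mod_cast this
      rw [div_le_iff₀ (by positivity)]
      nlinarith

end CfsgLib.GW
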