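import Cfsg.Agent.Lib.GW.Dihedral
import Cfsg.Agent.Lib.PGroups.BSW.Elements
import Cfsg.Agent.Lib.Core.Coprime
import Cfsg.Agent.Lib.OddLocal.Final.OddOrder
import Cfsg.Agent.Lib.OddGated.Metacyclic
import Cfsg.Agent.Lib.LocalEven.QuadSylowTwo
import Cfsg.Agent.Lib.PLocal.SLTwo.QdExtension
import Cfsg.Agent.Lib.PLocal.SLTwo.QdFree

/-!
# Simple groups with dihedral Sylow 2-subgroups and self-centralising four-groups: basic facts

The hypothesis is that no element of odd order other than the identity centralises two distinct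
commuting involutions.
-/

set_option autoImplicit false

namespace CfsgLib.GW

open Subgroup DihedralGroup
open CfsgLib.TwoGroups CfsgLib.TwoGroups.Dihedral
open CfsgLib.Signalizer (involution_sq involution_inv involution_ne_one orderOf_eq_two_of orderOf_conj)

universe u

/-- Dihedral Sylow 2-subgroup, one class of involutions, `O(C(T)) = 1` for all four-groups `T`. -/
structure Setting (G : Type u) [Group G] where
  S : Sylow 2 G
  n : ℕ
  f : DihedralGroup (2 ^ n) →* G
  inj : Function.Injective f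
  range : f.range = (S : Subgroup G)
  pos : 1 ≤ n
  one_class : ∀ a b : G, orderOf a = 2 → orderOf b = 2 → IsConj a b
  fpf : ∀ t u x : G, orderOf t = 2 → orderOf u = 2 → t ≠ u → Commute t u → Odd (orderOf x) →
    Commute x t → Commute x u → x = 1

variable {G : Type u} [Group G]

/-- `O(C(t))`, as the subgroup generated by the elements of odd order of the centraliser. -/
noncomputable def U (t : G) : Subgroup G :=
  (Cfsg.pResidual 2 ↥(centralizer ({t} : Set G))).map (centralizer ({t} : Set G)).subtype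

theorem U_le (t : G) : U t ≤ centralizer ({t} : Set G) := map_subtype_le _

theorem commute_of_mem_centralizer {t x : G} (h : x ∈ centralizer ({t} : Set G)) : Commute x t :=
  mem_centralizer_singleton_iff.1 h

theorem mem_centralizer_of_commute {t x : G} (h : Commute x t) : x ∈ centralizer ({t} : Set G) :=
  mem_centralizer_singleton_iff.2 h

theorem conj_eq_of_commute {t x : G} (h : Commute t x) : t * x * t⁻¹ = x := by
  rw [h.eq, mul_inv_cancel_right]

theorem commute_of_conj_eq {t x : G} (h : t * x * t⁻¹ = x) : Commute t x :=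
  mul_inv_eq_iff_eq_mul.1 h

theorem odd_orderOf_of_mem [Finite G] {K : Subgroup G} (hK : Odd (Nat.card K)) {x : G} (hx : x ∈ K) :
    Odd (orderOf x) :=
  hK.of_dvd_nat (orderOf_dvd_natCard K hx)

theorem eq_one_of_inv_self {x : G} (ho : Odd (orderOf x)) (h : x⁻¹ = x) : x = 1 :=
  orderOf_eq_one_iff.1 (Nat.eq_one_of_dvd_coprimes (Nat.coprime_two_right.2 ho) dvd_rfl
    (orderOf_dvd_of_pow_eq_one (by rw [pow_two]; nth_rw 1 [← h]; rw [inv_mul_cancel])))

/-- The subgroup generated by two elements. -/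
abbrev four (t u : G) : Subgroup G := closure ({t, u} : Set G)

theorem four_le {t u : G} {K : Subgroup G} (ht : t ∈ K) (hu : u ∈ K) : four t u ≤ K :=
  (closure_le K).2 (by simp [Set.insert_subset_iff, ht, hu])

theorem mem_four_cases {t u x : G} (ht : orderOf t = 2) (hu : orderOf u = 2) (h : Commute t u)
    (hx : x ∈ four t u) : x = 1 ∨ x = t ∨ x = u ∨ x = t * u := by
  have e1 := involution_sq ht
  have e2 := involution_sq hu
  have e3 : u * t = t * u := h.eq.symm
  have e4 : t * (t * u) = u := by rw [← mul_assoc, e1, one_mul]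
  have e5 : u * (t * u) = t := by rw [← mul_assoc, e3, mul_assoc, e2, mul_one]
  have e6 : t * u * t = u := by rw [mul_assoc, e3, e4]
  have e7 : t * u * u = t := by rw [mul_assoc, e2, mul_one]
  have e8 : t * u * (t * u) = 1 := by rw [← mul_assoc, e6, e2]
  induction hx using closure_induction with
  | mem y hy => rcases hy with rfl | rfl <;> simp
  | one => simp
  | mul y z _ _ ihy ihz =>
    rcases ihy with rfl | rfl | rfl | rfl <;> rcases ihz with rfl | rfl | rfl | rfl <;>
      simp [e1, e2, e3, e4, e5, e6, e7, e8]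
  | inv y _ ih =>
    rcases ih with rfl | rfl | rfl | rfl
    · simp
    · simp [involution_inv ht]
    · simp [involution_inv hu]
    · rw [mul_inv_rev, involution_inv ht, involution_inv hu, e3]; simp

theorem isPGroup_four {t u : G} (ht : orderOf t = 2) (hu : orderOf u = 2) (h : Commute t u) :
    IsPGroup 2 (four t u) := fun x => ⟨1, by
  apply Subtype.ext
  rw [pow_one, coe_pow, coe_one, pow_two]
  rcases mem_four_cases ht hu h x.2 with e | e | e | e <;> rw [e]
  · simp
  · exact involution_sq ht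
  · exact involution_sq hu
  · rw [← pow_two, h.mul_pow, pow_two, pow_two, involution_sq ht, involution_sq hu, mul_one]⟩

namespace Rot

variable {t u g : G}

theorem next (h : Rot t u g) : Rot u (t * u) g where
  ht := h.hu
  hu := by
    rw [← h.conj2, orderOf_conj]; exact h.hu
  ne := fun e => involution_ne_one h.ht (mul_eq_right.1 e.symm)
  comm := h.comm.symm.mul_right (Commute.refl u)
  conj1 := h.conj2
  conj2 := by
    rw [show g * (t * u) * g⁻¹ = g * t * g⁻¹ * (g * u * g⁻¹) by group, h.conj1, h.conj2]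

theorem conj (h : Rot t u g) (k : G) :
    Rot (k * t * k⁻¹) (k * u * k⁻¹) (k * g * k⁻¹) where
  ht := by rw [orderOf_conj]; exact h.ht
  hu := by rw [orderOf_conj]; exact h.hu
  ne := fun e => h.ne (mul_left_cancel (mul_right_cancel e))
  comm := h.comm.map (MulAut.conj k).toMonoidHom
  conj1 := by rw [← h.conj1]; group
  conj2 := by
    rw [show k * t * k⁻¹ * (k * u * k⁻¹) = k * (t * u) * k⁻¹ by group, ← h.conj2]; group

theorem prod_order (h : Rot t u g) : orderOf (t * u) = 2 := h.next.hu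

end Rot

namespace Setting

variable [Finite G]

theorem exists_rot' (σ : Setting G) (X : Subgroup G) (h : ¬ Cfsg.HasNormalPComplement 2 X) :
    ∃ t u g, t ∈ X ∧ u ∈ X ∧ g ∈ X ∧ Rot t u g :=
  exists_rot σ.inj σ.range σ.pos X h

theorem centralizer_complement (σ : Setting G) {t : G} (ht : orderOf t = 2) :
    Cfsg.HasNormalPComplement 2 (centralizer ({t} : Set G)) :=
  CfsgLib.TwoGroups.Dihedral.centralizer_complement σ.inj σ.range σ.pos ht

variable (σ : Setting G)

include σ in
theorem mem_U {t : G} (ht : orderOf t = 2) {x : G} :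
    x ∈ U t ↔ Commute x t ∧ Odd (orderOf x) := by
  have hc := σ.centralizer_complement ht
  constructor
  · rintro ⟨y, hy, rfl⟩
    refine ⟨commute_of_mem_centralizer y.2, ?_⟩
    have := (CfsgLib.Transfer.mem_pResidual_iff_coprime hc).1 hy
    rwa [Nat.coprime_two_right, ← Subgroup.orderOf_coe] at this
  · rintro ⟨h1, h2⟩
    exact ⟨⟨x, mem_centralizer_of_commute h1⟩, (CfsgLib.Transfer.mem_pResidual_iff_coprime hc).2
      (by rw [Subgroup.orderOf_mk]; exact Nat.coprime_two_right.2 h2), rfl⟩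

include σ in
theorem odd_U {t : G} (ht : orderOf t = 2) : Odd (Nat.card (U t)) := by
  rw [U, card_map_of_injective (centralizer ({t} : Set G)).subtype_injective, ← Nat.coprime_two_right]
  exact CfsgLib.Transfer.hasNormalPComplement_iff_coprime.1 (σ.centralizer_complement ht)

theorem le_normalizer_U (t : G) : centralizer ({t} : Set G) ≤ normalizer (U t : Set G) := by
  intro c hc
  refine mem_normalizer_iff.2 fun x => ⟨?_, fun hx => ?_⟩
  · rintro ⟨y, hy, rfl⟩
    exact ⟨⟨c, hc⟩ * y * ⟨c, hc⟩⁻¹, Subgroup.Normal.conj_mem inferInstance y hy _, rfl⟩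
  · obtain ⟨y, hy, e⟩ := hx
    refine ⟨⟨c, hc⟩⁻¹ * y * (⟨c, hc⟩⁻¹)⁻¹, Subgroup.Normal.conj_mem inferInstance y hy _, ?_⟩
    show c⁻¹ * (y : G) * c⁻¹⁻¹ = x
    rw [show (y : G) = c * x * c⁻¹ from e]; group

include σ in
/-- Fixed points of one involution of a four-group in an odd group are inverted by the others. -/
theorem inverts {K : Subgroup G} (hK : Odd (Nat.card K)) {t u : G} (ht : orderOf t = 2)
    (hu : orderOf u = 2) (hne : t ≠ u) (hc : Commute t u) (huK : u ∈ normalizer (K : Set G))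
    {x : G} (hx : x ∈ K) (hxt : Commute x t) : u * x * u⁻¹ = x⁻¹ := by
  refine CfsgLib.PGroups.BSW.inverts_of_fpf (K ⊓ centralizer ({t} : Set G)) (involution_sq hu) ?_ ?_ x
    ⟨hx, mem_centralizer_of_commute hxt⟩
  · intro a ha
    refine ⟨(mem_normalizer_iff.1 huK a).1 ha.1, mem_centralizer_of_commute ?_⟩
    have := (commute_of_mem_centralizer ha.2).map (MulAut.conj u).toMonoidHom
    simpa [conj_eq_of_commute hc.symm] using this
  · intro a ha hfix
    exact σ.fpf t u a ht hu hne hc (odd_orderOf_of_mem hK ha.1) (commute_of_mem_centralizer ha.2)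
      (commute_of_conj_eq hfix).symm

include σ in
theorem inverts_U {t u : G} (ht : orderOf t = 2) (hu : orderOf u = 2) (hne : t ≠ u) (hc : Commute t u)
    {x : G} (hx : x ∈ U t) : u * x * u⁻¹ = x⁻¹ :=
  σ.inverts (σ.odd_U ht) ht hu hne hc (le_normalizer_U t (mem_centralizer_of_commute hc.symm)) hx
    ((σ.mem_U ht).1 hx).1

include σ in
/-- Every involution has a partner. -/
theorem exists_partner {t : G} (ht : orderOf t = 2) :
    ∃ u, orderOf u = 2 ∧ t ≠ u ∧ Commute t u := by
  obtain ⟨c, hc⟩ := isConj_iff.1 (σ.one_class _ t (orderOf_half σ.inj σ.pos) ht)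
  refine ⟨c * σ.f (sr 0) * c⁻¹, by rw [orderOf_conj, orderOf_injective σ.f σ.inj, orderOf_sr],
    fun e => ?_, ?_⟩
  · rw [← hc] at e
    cases σ.inj (mul_left_cancel (mul_right_cancel e))
  · rw [← hc]
    refine Commute.map ?_ (MulAut.conj c).toMonoidHom
    show σ.f (r (half σ.n)) * σ.f (sr 0) = σ.f (sr 0) * σ.f (r (half σ.n))
    rw [← map_mul, ← map_mul, r_mul_sr, sr_mul_r, sub_eq_add_neg, neg_half σ.pos]

include σ in
theorem comm_U {t : G} (ht : orderOf t = 2) {x y : G} (hx : x ∈ U t) (hy : y ∈ U t) : x * y = y * x := by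
  obtain ⟨u, hu, hne, hc⟩ := σ.exists_partner ht
  exact CfsgLib.PGroups.BSW.commute_of_inverted (U t) (fun a ha => σ.inverts_U ht hu hne hc ha) hx hy

include σ in
/-- The centraliser of an involution acts on its odd part by signs. -/
theorem centralizes_or_inverts {t : G} (ht : orderOf t = 2) {x : G} (hx : Commute x t) :
    (∀ y ∈ U t, x * y * x⁻¹ = y) ∨ (∀ y ∈ U t, x * y * x⁻¹ = y⁻¹) := by
  classical
  have hinv : ∀ z : G, z * z = 1 → Commute z t →
      (∀ y ∈ U t, z * y * z⁻¹ = y) ∨ (∀ y ∈ U t, z * y * z⁻¹ = y⁻¹) := by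
    intro z hz hzt
    by_cases h1 : z = 1
    · exact Or.inl fun y _ => by simp [h1]
    by_cases h2 : z = t
    · exact Or.inl fun y hy => h2 ▸ conj_eq_of_commute ((σ.mem_U ht).1 hy).1.symm
    exact Or.inr fun y hy => σ.inverts_U ht (orderOf_eq_two_of h1 hz) (Ne.symm h2) hzt.symm hy
  obtain ⟨a, m, hm, hxo⟩ := Nat.exists_eq_two_pow_mul_odd (orderOf_pos x).ne'
  have hgcd : Nat.gcd (2 ^ a) m = 1 := (Nat.coprime_two_left.2 hm).pow_left a
  have hbez : (1 : ℤ) = (2 ^ a : ℕ) * Nat.gcdA (2 ^ a) m + (m : ℕ) * Nat.gcdB (2 ^ a) m := by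
    have := Nat.gcd_eq_gcd_ab (2 ^ a) m
    rwa [hgcd, Nat.cast_one] at this
  set xo : G := (x ^ 2 ^ a) ^ Nat.gcdA (2 ^ a) m with hxo'
  set x2 : G := (x ^ m) ^ Nat.gcdB (2 ^ a) m with hx2'
  have hsplit : x = x2 * xo := by
    rw [hxo', hx2', ← zpow_natCast x m, ← zpow_mul, ← zpow_natCast x (2 ^ a), ← zpow_mul, ← zpow_add,
      add_comm, ← hbez, zpow_one]
  have hxoU : xo ∈ U t := by
    refine zpow_mem ((σ.mem_U ht).2 ⟨hx.pow_left _, ?_⟩) _
    rw [orderOf_pow_of_dvd (pow_ne_zero _ two_ne_zero) (hxo ▸ dvd_mul_right _ _), hxo,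
      Nat.mul_div_cancel_left _ (pow_pos two_pos a)]
    exact hm
  have hact : ∀ y ∈ U t, x * y * x⁻¹ = x2 * y * x2⁻¹ := by
    intro y hy
    rw [hsplit, show x2 * xo * y * (x2 * xo)⁻¹ = x2 * (xo * y * xo⁻¹) * x2⁻¹ by group,
      conj_eq_of_commute (σ.comm_U ht hxoU hy)]
  suffices h : (∀ y ∈ U t, x2 * y * x2⁻¹ = y) ∨ (∀ y ∈ U t, x2 * y * x2⁻¹ = y⁻¹) by
    exact h.imp (fun h y hy => (hact y hy).trans (h y hy)) (fun h y hy => (hact y hy).trans (h y hy))
  have hx2t : Commute x2 t := (hx.pow_left _).zpow_left _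
  have hx2p : x2 ^ 2 ^ a = 1 := by
    rw [hx2', ← zpow_natCast, ← zpow_mul, mul_comm, zpow_mul, zpow_natCast, ← pow_mul, mul_comm,
      ← hxo, pow_orderOf_eq_one, one_zpow]
  by_cases h22 : x2 * x2 = 1
  · exact hinv x2 h22 hx2t
  have hQ : IsPGroup 2 (closure ({t, x2} : Set G)) := by
    letI : CommGroup (closure ({t, x2} : Set G)) := Subgroup.closureCommGroupOfComm (by
      intro p hp q hq
      rcases hp with rfl | rfl <;> rcases hq with rfl | rfl <;>
        first | rfl | exact hx2t.eq | exact hx2t.eq.symm)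
    intro q
    refine ⟨a + 1, Subtype.ext ?_⟩
    rw [coe_pow, coe_one]
    obtain ⟨q, hq⟩ := q
    show q ^ 2 ^ (a + 1) = 1
    induction hq using closure_induction with
    | mem y hy =>
      rcases hy with rfl | rfl
      · rw [pow_succ', pow_mul, pow_two, involution_sq ht, one_pow]
      · rw [pow_succ, pow_mul, hx2p, one_pow]
    | one => exact one_pow _
    | mul y z hy hz ihy ihz =>
      have hyz : Commute y z := congrArg Subtype.val
        (mul_comm (⟨y, hy⟩ : closure ({t, x2} : Set G)) ⟨z, hz⟩)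
      rw [hyz.mul_pow, ihy, ihz, one_mul]
    | inv y _ ih => rw [inv_pow, ih, inv_one]
  obtain ⟨c, hc⟩ := exists_pull σ.range hQ
  obtain ⟨b, hb⟩ := hc t (subset_closure (by simp))
  obtain ⟨d, hd⟩ := hc x2 (subset_closure (by simp))
  have hbo : orderOf b = 2 := by rw [← orderOf_injective σ.f σ.inj, hb, orderOf_conj]; exact ht
  have hd2 : d * d ≠ 1 := fun e => h22 (by
    have := congrArg σ.f e
    rwa [map_mul, map_one, hd, show c * x2 * c⁻¹ * (c * x2 * c⁻¹) = c * (x2 * x2) * c⁻¹ by group,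
      conj_eq_one_iff] at this)
  have hbd : b * d = d * b := σ.inj (by
    rw [map_mul, map_mul, hb, hd]
    exact (hx2t.map (MulAut.conj c).toMonoidHom).eq.symm)
  obtain ⟨i, rfl⟩ : ∃ i, d = r i := by
    rcases d with i | i
    · exact ⟨i, rfl⟩
    · exact absurd (sr_mul_self i) hd2
  obtain rfl : b = r (half σ.n) := by
    rcases b with j | j
    · rcases sq_eq_one_r σ.pos (involution_sq hbo) with e | e
      · exact absurd e (involution_ne_one hbo)
      · rw [e]
    · rw [r_mul_sr, sr_mul_r, sr.injEq] at hbd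
      exact absurd (by rw [r_mul_r, show i + i = 0 by linear_combination hbd]; rfl) hd2
  have hw : ∀ k : ZMod (2 ^ σ.n), ∀ y ∈ U t,
      (c⁻¹ * σ.f (sr k) * c) * y * (c⁻¹ * σ.f (sr k) * c)⁻¹ = y⁻¹ := by
    intro k y hy
    have htc : t = c⁻¹ * σ.f (r (half σ.n)) * c := by rw [hb]; group
    refine σ.inverts_U ht ?_ ?_ ?_ hy
    · have := orderOf_conj c⁻¹ (σ.f (sr k))
      rw [inv_inv] at this
      rw [this, orderOf_injective σ.f σ.inj, orderOf_sr]
    · intro e
      rw [htc] at e
      cases σ.inj (mul_left_cancel (mul_right_cancel e))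
    · rw [htc]
      have := (show Commute (σ.f (r (half σ.n))) (σ.f (sr k)) by
        show σ.f (r (half σ.n)) * σ.f (sr k) = σ.f (sr k) * σ.f (r (half σ.n))
        rw [← map_mul, ← map_mul, r_mul_sr, sr_mul_r, sub_eq_add_neg, neg_half σ.pos]).map
          (MulAut.conj c⁻¹).toMonoidHom
      simpa using this
  refine Or.inl fun y hy => ?_
  have e : x2 = (c⁻¹ * σ.f (sr 0) * c) * (c⁻¹ * σ.f (sr i) * c) := by
    rw [show c⁻¹ * σ.f (sr 0) * c * (c⁻¹ * σ.f (sr i) * c) = c⁻¹ * (σ.f (sr 0) * σ.f (sr i)) * c by group,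
      ← map_mul, sr_mul_sr, sub_zero, hd]
    group
  rw [e, show ∀ p q : G, p * q * y * (p * q)⁻¹ = p * (q * y * q⁻¹) * p⁻¹ from fun p q => by group,
    hw i y hy, hw 0 y⁻¹ (inv_mem hy), inv_inv]

include σ in
theorem centralizer_complement' {x : G} (hx : Odd (orderOf x)) (hx1 : x ≠ 1) :
    Cfsg.HasNormalPComplement 2 (centralizer ({x} : Set G)) := by
  by_contra h
  obtain ⟨t, u, g, htX, huX, -, hR⟩ := σ.exists_rot' _ h
  exact hx1 (σ.fpf t u x hR.ht hR.hu hR.ne hR.comm hx (commute_of_mem_centralizer htX).symm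
    (commute_of_mem_centralizer huX).symm)

include σ in
theorem solvable_centralizer {x : G} (hx : Odd (orderOf x)) (hx1 : x ≠ 1) :
    Group.IsSolvable (centralizer ({x} : Set G)) := by
  obtain ⟨N, hN, hcop, hP⟩ := CfsgLib.Transfer.hasNormalPComplement_iff_exists.1
    (σ.centralizer_complement' hx hx1)
  have h1 : Group.IsSolvable N :=
    CfsgLib.OddLocal.FTFinal.odd_order_solvable (Nat.coprime_two_right.1 hcop)
  have : Fact (Nat.Prime 2) := ⟨Nat.prime_two⟩
  haveI := hP.isNilpotent
  exact CfsgLib.OddGated.isSolvable_of_normal N h1 inferInstance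

include σ in
theorem noQd {p : ℕ} [Fact p.Prime] (hp : p ≠ 2) : CfsgLib.PLocal.SLTwo.NoQd p G := by
  intro hq
  obtain ⟨K, R, hR, ⟨e⟩⟩ := hq
  have : Fact (Nat.Prime 2) := ⟨Nat.prime_two⟩
  have hsl : Cfsg.Involves (Matrix.SpecialLinearGroup (Fin 2) (ZMod p)) G :=
    CfsgLib.Fusion.involves_of_surjective K.subtype K.subtype_injective
      ((CfsgLib.PLocal.SLTwo.linHom.comp e.toMonoidHom).comp (QuotientGroup.mk' (R.subgroupOf K)))
      (by
        rw [MonoidHom.coe_comp, MonoidHom.coe_comp]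
        exact (Function.Surjective.comp (fun x => ⟨_, CfsgLib.PLocal.SLTwo.linHom_aff x 0⟩)
          e.surjective).comp (QuotientGroup.mk'_surjective _))
  obtain ⟨Q, hQ, hQc⟩ := CfsgLib.Transfer.exists_two_subgroup_SLTwo (p := p) hp
  refine CfsgLib.LocalEven.QuadSylowTwo.not_involves_of_shape hp hQc
    (zpowers (r (1 : ZMod (2 ^ σ.n)))) (fun a ha b hb => ?_) (fun x hx => ?_)
    (CfsgLib.Fusion.involves_sylow hsl Q hQ σ.S (sylowEquiv σ.inj σ.range).toMonoidHom
      (sylowEquiv σ.inj σ.range).injective)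
  · obtain ⟨i, rfl⟩ := ha
    obtain ⟨j, rfl⟩ := hb
    exact ((Commute.refl _).zpow_zpow i j).eq
  · rcases x with i | i
    · exfalso
      apply hx
      obtain ⟨c, rfl⟩ := ZMod.intCast_surjective i
      exact ⟨c, r_one_zpow c⟩
    · exact sr_mul_self i

end Setting

end CfsgLib.GW
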