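import Cfsg.Agent.Lib.GW.Overgroup

/-!
# The overgroup controls all involutions

`M` contains the centraliser of each of its involutions and all of them are conjugate in `M`.
-/

set_option autoImplicit false

namespace CfsgLib.GW

open Subgroup Cfsg DihedralGroup
open CfsgLib.TwoGroups CfsgLib.TwoGroups.Dihedral
open CfsgLib.Signalizer (involution_sq involution_inv involution_ne_one orderOf_eq_two_of orderOf_conj)
open CfsgLib.LocalEven.JMeasure (thompson_le)

universe u

variable {G : Type u} [Group G] [Finite G]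

namespace Setting

variable (σ : Setting G)

include σ in
/-- When the Sylow subgroup has order four, `2`-subgroups have exponent two. -/
theorem sq_one_of_n_one (hn : σ.n = 1) {P : Subgroup G} (hP : IsPGroup 2 P) {p : G} (hp : p ∈ P) :
    p * p = 1 := by
  obtain ⟨c, hc⟩ := exists_pull σ.range hP
  obtain ⟨a, ha⟩ := hc p hp
  have h2 : a * a = 1 := by
    rcases a with i | i
    · rw [r_mul_r]
      have h0 : ∀ m : ℕ, m = 1 → ∀ j : ZMod (2 ^ m), j + j = 0 := by
        rintro m rfl; decide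
      rw [h0 σ.n hn i]; rfl
    · exact sr_mul_self i
  have h3 := congrArg σ.f h2
  rw [map_mul, map_one, ha, show c * p * c⁻¹ * (c * p * c⁻¹) = c * (p * p) * c⁻¹ by group] at h3
  exact conj_eq_one_iff.1 h3

include σ in
/-- A Sylow subgroup inside `C(t)` containing a partner. -/
theorem exists_sylow_centralizing {t u : G} (ht : orderOf t = 2) (hu : orderOf u = 2)
    (hc : Commute t u) :
    ∃ S : Sylow 2 G, (S : Subgroup G) ≤ centralizer ({t} : Set G) ∧ t ∈ (S : Subgroup G) ∧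
      u ∈ (S : Subgroup G) := by
  have : Fact (Nat.Prime 2) := ⟨Nat.prime_two⟩
  set C := centralizer ({t} : Set G) with hC
  have htC : t ∈ C := mem_centralizer_of_commute (Commute.refl t)
  have huC : u ∈ C := mem_centralizer_of_commute hc.symm
  obtain ⟨P, hP⟩ := ((isPGroup_four ht hu hc).comap_of_injective C.subtype C.subtype_injective :
    IsPGroup 2 ((four t u).subgroupOf C)).exists_le_sylow
  set PG := (P : Subgroup C).map C.subtype with hPG
  obtain ⟨S, hS⟩ := (P.2.map C.subtype : IsPGroup 2 PG).exists_le_sylow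
  have htS : t ∈ PG := ⟨⟨t, htC⟩, hP (subset_closure (by simp) : t ∈ four t u), rfl⟩
  have huS : u ∈ PG := ⟨⟨u, huC⟩, hP (subset_closure (by simp) : u ∈ four t u), rfl⟩
  suffices h : PG = (S : Subgroup G) from ⟨S, h ▸ map_subtype_le _, h ▸ htS, h ▸ huS⟩
  refine eq_of_le_of_card_ge hS ?_
  -- a Sylow subgroup of `G` lies in `C(t)`
  obtain ⟨d, hd⟩ := isConj_iff.1 (σ.one_class (σ.f (r (half σ.n))) t (orderOf_half σ.inj σ.pos) ht)
  have hle : ((d • σ.S : Sylow 2 G) : Subgroup G) ≤ C := by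
    intro x hx
    rw [CfsgLib.Transfer.mem_sylow_smul, ← σ.range] at hx
    obtain ⟨a, ha⟩ := hx
    refine mem_centralizer_of_commute ?_
    have h1 : Commute (σ.f a) (σ.f (r (half σ.n))) := by
      show σ.f a * σ.f (r (half σ.n)) = σ.f (r (half σ.n)) * σ.f a
      rw [← map_mul, ← map_mul]
      rcases a with i | i
      · rw [r_mul_r, r_mul_r, add_comm]
      · rw [r_mul_sr, sr_mul_r, sub_eq_add_neg, neg_half σ.pos]
    have h2 := h1.map (MulAut.conj d).toMonoidHom
    rw [ha] at h2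
    simpa [← hd, mul_assoc] using h2
  rw [hPG, card_map_of_injective C.subtype_injective, P.card_eq_multiplicity, S.card_eq_multiplicity,
    ← (d • σ.S).card_eq_multiplicity, ← Nat.card_congr (subgroupOfEquivOfLe hle).toEquiv,
    ← ((d • σ.S).subtype hle).card_eq_multiplicity, Sylow.coe_subtype]

end Setting

namespace ZJData

variable {r : ℕ} [Fact r.Prime] (d : ZJData G r)

/-- `C(t) ≤ M`. -/
theorem centralizer_t_le (σ : Setting G) (hr : r ≠ 2) : centralizer ({d.t} : Set G) ≤ d.M := by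
  obtain ⟨e, he, he1, het⟩ := d.exists_fixed σ hr
  have heU : e ∈ U d.t := (σ.mem_U d.rot.ht).2 ⟨het, odd_orderOf_of_mem (d.A_odd hr) he⟩
  intro x hx
  rcases σ.centralizes_or_inverts d.rot.ht (commute_of_mem_centralizer hx) with h | h
  · exact d.centralizer_le_M σ hr he he1
      (mem_centralizer_of_commute (commute_of_conj_eq (h e heU)))
  · have huM : d.u ∈ d.M := d.normalizer_le_M d.hu
    have h2 : d.u * x * e * (d.u * x)⁻¹ = e := by
      rw [show d.u * x * e * (d.u * x)⁻¹ = d.u * (x * e * x⁻¹) * d.u⁻¹ by group, h e heU,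
        show d.u * e⁻¹ * d.u⁻¹ = (d.u * e * d.u⁻¹)⁻¹ by group,
        σ.inverts_U d.rot.ht d.rot.hu d.rot.ne d.rot.comm heU, inv_inv]
    have h3 := d.centralizer_le_M σ hr he he1 (mem_centralizer_of_commute (commute_of_conj_eq h2))
    have h4 := mul_mem (inv_mem huM) h3
    rwa [inv_mul_cancel_left] at h4

/-- A Sylow subgroup of `C(t)` containing `u` normalises `Z(J(R))`. -/
theorem sylow_le_normalizer (σ : Setting G) (hr : r ≠ 2) {S : Sylow 2 G}
    (hS : (S : Subgroup G) ≤ centralizer ({d.t} : Set G)) (htS : d.t ∈ (S : Subgroup G))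
    (huS : d.u ∈ (S : Subgroup G)) : (S : Subgroup G) ≤ normalizer (d.Z : Set G) := by
  classical
  have : Fact (Nat.Prime 2) := ⟨Nat.prime_two⟩
  obtain ⟨e, he, he1, het⟩ := d.exists_fixed σ hr
  have heo := odd_orderOf_of_mem (d.A_odd hr) he
  have heU : e ∈ U d.t := (σ.mem_U d.rot.ht).2 ⟨het, heo⟩
  set C := centralizer ({e} : Set G) with hC
  have hcC := σ.centralizer_complement' heo he1
  set H := oddPart C with hH
  have hHo : Odd (Nat.card H) := odd_oddPart hcC
  have hSC : (S : Subgroup G) ≤ normalizer (C : Set G) := by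
    intro s hs
    refine mem_normalizer_of_conj fun x hx => mem_centralizer_of_commute ?_
    have h1 := (commute_of_mem_centralizer hx).map (MulAut.conj s).toMonoidHom
    rcases σ.centralizes_or_inverts d.rot.ht (commute_of_mem_centralizer (hS hs)) with h | h
    · have h2 : (MulAut.conj s).toMonoidHom e = e := h e heU
      rw [h2] at h1; simpa using h1
    · have h2 : (MulAut.conj s).toMonoidHom e = e⁻¹ := h e heU
      rw [h2] at h1; simpa using h1.inv_right
  have hSH : (S : Subgroup G) ≤ normalizer (H : Set G) := hSC.trans (normalizer_le_oddPart hcC)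
  have hcop : (Nat.card (S : Subgroup G)).Coprime (Nat.card H) := by
    obtain ⟨k, hk⟩ := IsPGroup.iff_card.1 S.2
    rw [hk]
    exact (Nat.coprime_two_left.2 hHo).pow_left k
  obtain ⟨P, hP⟩ := CfsgLib.Core.exists_invariant_sylow hSH hcop
    (Or.inr (CfsgLib.OddLocal.FTFinal.odd_order_solvable hHo)) r
  set P' := (P : Subgroup H).map H.subtype with hP'
  have hTS : four d.t d.u ≤ (S : Subgroup G) := four_le htS huS
  -- the unique invariant Sylow subgroup
  obtain ⟨P₀, hP₀, hP₀max⟩ := σ.exists_invSylow hHo d.rot.ht d.rot.hu d.rot.ne d.rot.comm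
    (hTS.trans hSH) r
  have hcardH : ∀ P₁ P₂ : Sylow r H, Nat.card ((P₁ : Subgroup H).map H.subtype) =
      Nat.card ((P₂ : Subgroup H).map H.subtype) := fun P₁ P₂ => by
    rw [card_map_of_injective H.subtype_injective, card_map_of_injective H.subtype_injective,
      P₁.card_eq_multiplicity, P₂.card_eq_multiplicity]
  have hPP₀ : P' = (P₀ : Subgroup H).map H.subtype :=
    eq_of_le_of_card_ge (hP₀max P' (P.2.map _) (map_subtype_le _) (hTS.trans hP)) (hcardH P₀ P).le
  have hPp : IsPGroup r P' := P.2.map _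
  have hmaxH : ∀ Q : Subgroup G, IsPGroup r Q → Q ≤ H → Nat.card Q ≤ Nat.card P' := by
    intro Q hQ hQH
    obtain ⟨Q₁, hQ₁⟩ := (hQ.comap_of_injective H.subtype H.subtype_injective :
      IsPGroup r (Q.subgroupOf H)).exists_le_sylow
    refine le_trans ?_ (hcardH Q₁ P).le
    rw [card_map_of_injective H.subtype_injective,
      ← Nat.card_congr (subgroupOfEquivOfLe hQH).toEquiv]
    exact Subgroup.card_le_of_le hQ₁
  have hmemH : ∀ Q : Subgroup G, IsPGroup r Q → Q ≤ C → Q ≤ H := fun Q hQ hQC x hx =>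
    (mem_oddPart hcC).2 ⟨hQC hx, odd_orderOf_of_mem (Setting.odd_of_pGroup hr hQ) hx⟩
  -- `P'` normalises `Z`
  have hP'N : P' ≤ normalizer (d.Z : Set G) := by
    set HN := H ⊓ normalizer (d.Z : Set G) with hHN
    have hHNo : Odd (Nat.card HN) := hHo.of_dvd_nat (card_dvd_of_le inf_le_left)
    have hTHN : four d.t d.u ≤ normalizer (HN : Set G) :=
      (le_inf (hTS.trans hSH) (d.four_le_N.trans le_normalizer)).trans
        CfsgLib.Transfer.normalizer_le_normalizer_inf
    obtain ⟨Q₀, hQ₀, -⟩ := σ.exists_invSylow hHNo d.rot.ht d.rot.hu d.rot.ne d.rot.comm hTHN r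
    obtain ⟨Q, P₁, hQP₁, hJP₁, hJQ⟩ := d.exists_sylow_cent he
    set QG := (Q : Subgroup C).map C.subtype with hQG
    have hQHN : QG ≤ HN := le_inf (hmemH _ (Q.2.map _) (map_subtype_le _)) (by
      refine le_normalizer.trans ((CfsgLib.PLocal.normalizer_le_normalizer_centerThompsonA QG).trans ?_)
      rw [d.zj_eq hJQ])
    set Q₀' := (Q₀ : Subgroup HN).map HN.subtype with hQ₀'
    have h1 : Q₀' ≤ P' := hPP₀ ▸ hP₀max Q₀' (Q₀.2.map _)
      ((map_subtype_le _).trans inf_le_left) hQ₀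
    have h2 : Nat.card QG ≤ Nat.card Q₀' := by
      obtain ⟨Q₁, hQ₁⟩ := ((Q.2.map C.subtype : IsPGroup r QG).comap_of_injective HN.subtype
        HN.subtype_injective : IsPGroup r (QG.subgroupOf HN)).exists_le_sylow
      rw [← Nat.card_congr (subgroupOfEquivOfLe hQHN).toEquiv, hQ₀',
        card_map_of_injective HN.subtype_injective, Q₀.card_eq_multiplicity, ← Q₁.card_eq_multiplicity]
      exact Subgroup.card_le_of_le hQ₁
    have h3 : Nat.card P' ≤ Nat.card QG := by
      have hP'C : P' ≤ C := (map_subtype_le _).trans (oddPart_le C)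
      obtain ⟨Q₁, hQ₁⟩ := (hPp.comap_of_injective C.subtype C.subtype_injective :
        IsPGroup r (P'.subgroupOf C)).exists_le_sylow
      rw [hQG, card_map_of_injective C.subtype_injective, Q.card_eq_multiplicity,
        ← Q₁.card_eq_multiplicity, ← Nat.card_congr (subgroupOfEquivOfLe hP'C).toEquiv]
      exact Subgroup.card_le_of_le hQ₁
    rw [← eq_of_le_of_card_ge h1 (h3.trans h2)]
    exact (map_subtype_le _).trans inf_le_right
  -- `Z(J(P')) = Z`
  set N := normalizer (d.Z : Set G) with hN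
  have hRN : (d.R : Subgroup G) ≤ N :=
    le_normalizer.trans (CfsgLib.PLocal.normalizer_le_normalizer_centerThompsonA _)
  obtain ⟨R₁, hR₁⟩ := (hPp.comap_of_injective N.subtype N.subtype_injective :
    IsPGroup r (P'.subgroupOf N)).exists_le_sylow
  obtain ⟨c, hc⟩ := MulAction.exists_smul_eq N (d.R.subtype hRN) R₁
  set R₂ : Sylow r G := (c : G) • d.R with hR₂
  have hR₂R₁ : ∀ x : N, x ∈ (R₁ : Subgroup N) ↔ (x : G) ∈ (R₂ : Subgroup G) := by
    intro x
    rw [← hc, CfsgLib.Transfer.mem_sylow_smul, hR₂, CfsgLib.Transfer.mem_sylow_smul, Sylow.coe_subtype,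
      mem_subgroupOf]
    rfl
  have hP'R₂ : P' ≤ (R₂ : Subgroup G) := fun x hx =>
    (hR₂R₁ ⟨x, hP'N hx⟩).1 (hR₁ (show (⟨x, hP'N hx⟩ : N) ∈ P'.subgroupOf N from hx))
  have hR₂map : (R₂ : Subgroup G) = (d.R : Subgroup G).map (MulAut.conj (c : G)).toMonoidHom := rfl
  have hJ2 : centerThompsonAOf (R₂ : Subgroup G) = d.Z := by
    rw [hR₂map, ← CfsgLib.PLocal.centerThompsonA_map (MulAut.conj (c : G)).toMonoidHom _
      (by rw [(MonoidHom.ker_eq_bot_iff _).2 (MulAut.conj _).injective]; exact disjoint_bot_right)]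
    exact CfsgLib.Transfer.map_conj_eq_self_iff.2 c.2
  have hJC : thompsonSubgroupAOf (R₂ : Subgroup G) ≤ C := fun x hx => by
    have he2 : e ∈ centerThompsonAOf (R₂ : Subgroup G) := hJ2.symm ▸ d.A_le he
    exact mem_centralizer_of_commute (mem_centralizer_iff.1 he2.2 x hx)
  have hP'eq : (R₂ : Subgroup G) ⊓ C ≤ P' := by
    refine (eq_of_le_of_card_ge (le_inf hP'R₂ ((map_subtype_le _).trans (oddPart_le C))) ?_).ge
    exact hmaxH _ (R₂.2.to_le inf_le_left) (hmemH _ (R₂.2.to_le inf_le_left) inf_le_right)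
  have hJP' : thompsonSubgroupAOf P' = thompsonSubgroupAOf (R₂ : Subgroup G) :=
    CfsgLib.Fusion.thompsonA_eq_of_le hP'R₂ (le_top : (R₂ : Subgroup G) ≤ ⊤)
      ((le_inf (thompson_le _) hJC).trans hP'eq)
  have hZP' : centerThompsonAOf P' = d.Z := by
    rw [← hJ2, centerThompsonAOf, centerThompsonAOf, hJP']
  exact hP.trans ((CfsgLib.PLocal.normalizer_le_normalizer_centerThompsonA P').trans (by rw [hZP']))

/-- An involution of `C(t)` fixing a non-trivial element of `A` is conjugate to `t` inside `M`. -/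
theorem conj_in_M (σ : Setting G) (hr : r ≠ 2) {w b : G} (hw : orderOf w = 2) (hb : b ∈ d.A)
    (hb1 : b ≠ 1) (hbw : Commute b w) : ∃ m ∈ d.M, m * d.t * m⁻¹ = w := by
  classical
  obtain ⟨e, he, he1, het⟩ := d.exists_fixed σ hr
  obtain ⟨k₀, hk₀⟩ := isConj_iff.1 (σ.one_class d.t w d.rot.ht hw)
  refine ⟨k₀, ?_, hk₀⟩
  set x := k₀ * e * k₀⁻¹ with hx
  have hxo : orderOf x = orderOf e := by rw [hx, orderOf_conj]
  have hxw : Commute x w := hk₀ ▸ het.map (MulAut.conj k₀).toMonoidHom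
  have hxU : x ∈ U w :=
    (σ.mem_U hw).2 ⟨hxw, hxo ▸ odd_orderOf_of_mem (d.A_odd hr) he⟩
  have hbU : b ∈ U w := (σ.mem_U hw).2 ⟨hbw, odd_orderOf_of_mem (d.A_odd hr) hb⟩
  set C := centralizer ({b} : Set G) with hC
  have hxC : x ∈ C := mem_centralizer_of_commute (σ.comm_U hw hxU hbU)
  obtain ⟨Q, P, hQP, hJP, hJQ⟩ := d.exists_sylow_cent hb
  have hxp : IsPGroup r (zpowers (⟨x, hxC⟩ : C)) := by
    obtain ⟨n, hn⟩ := IsPGroup.iff_orderOf.1 d.A_isPGroup ⟨e, he⟩
    refine IsPGroup.of_card (n := n) ?_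
    rw [Nat.card_zpowers, Subgroup.orderOf_mk, hxo]
    rwa [Subgroup.orderOf_mk] at hn
  obtain ⟨k, hk⟩ := CfsgLib.TwoGroups.exists_conj_le_sylow Q hxp
  have hkx : (k : G) * x * (k : G)⁻¹ ∈ (P : Subgroup G) :=
    hQP ⟨_, hk (CfsgLib.TwoGroups.conj_mem_map_conj (mem_zpowers _)), rfl⟩
  set m := (k : G) * k₀ with hm
  have hmP : m * e * m⁻¹ ∈ (P : Subgroup G) := by
    rw [hm, show (k : G) * k₀ * e * ((k : G) * k₀)⁻¹ = k * (k₀ * e * k₀⁻¹) * (k : G)⁻¹ by group]
    exact hkx
  have heP : e ∈ (P : Subgroup G) := by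
    have h1 := (d.A_le_thompson he : e ∈ thompsonSubgroupAOf (d.R : Subgroup G))
    rw [← hJP] at h1
    exact thompson_le _ h1
  obtain ⟨-, hctrl⟩ := CfsgLib.PLocal.SLTwo.zjA_controls (G := G) hr
    (fun H _ _ hH _ S => CfsgLib.PLocal.SLTwo.stableAt_of_noQd hr
      (CfsgLib.PLocal.SLTwo.noQd_of_isSec (σ.noQd hr) hH) (S : Subgroup H))
    P ({e} : Set G) (Set.singleton_subset_iff.2 heP)
  obtain ⟨z, hz, hze⟩ := hctrl m (by
    rintro _ ⟨a, rfl, rfl⟩
    exact hmP)
  have hzM : z ∈ d.M := d.normalizer_le_M (by rwa [d.zj_eq hJP] at hz)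
  have hze' := hze e rfl
  have hzm : z⁻¹ * m ∈ centralizer ({e} : Set G) := mem_centralizer_of_commute (commute_of_conj_eq (by
    rw [show z⁻¹ * m * e * (z⁻¹ * m)⁻¹ = z⁻¹ * (m * e * m⁻¹) * z by group, hze']; group))
  have hmM : m ∈ d.M := by
    have := mul_mem hzM (d.centralizer_le_M σ hr he he1 hzm)
    rwa [mul_inv_cancel_left] at this
  have := mul_mem (inv_mem (d.centralizer_le_M σ hr hb hb1 k.2)) hmM
  rwa [hm, inv_mul_cancel_left] at this

/-- All involutions of `M` are conjugate in `M`, and their centralisers lie in `M`. -/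
theorem involutions_M (σ : Setting G) (hr : r ≠ 2) :
    d.t ∈ d.M ∧ d.u ∈ d.M ∧
      ∀ w : G, orderOf w = 2 → w ∈ d.M →
        (∃ m ∈ d.M, m * d.t * m⁻¹ = w) ∧ centralizer ({w} : Set G) ≤ d.M := by
  classical
  have : Fact (Nat.Prime 2) := ⟨Nat.prime_two⟩
  have htM : d.t ∈ d.M := d.normalizer_le_M d.ht
  have huM : d.u ∈ d.M := d.normalizer_le_M d.hu
  have hgM : d.g ∈ d.M := d.normalizer_le_M d.hg
  obtain ⟨S, hSC, htS, huS⟩ := σ.exists_sylow_centralizing d.rot.ht d.rot.hu d.rot.comm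
  have hSN := d.sylow_le_normalizer σ hr hSC htS huS
  have hSM : (S : Subgroup G) ≤ d.M := hSN.trans d.normalizer_le_M
  refine ⟨htM, huM, fun w hw hwM => ?_⟩
  suffices hmain : ∀ v ∈ (S : Subgroup G), orderOf v = 2 → ∃ m ∈ d.M, m * d.t * m⁻¹ = v by
    obtain ⟨k, hk⟩ := CfsgLib.TwoGroups.exists_conj_le_sylow (S.subtype hSM)
      (IsPGroup.of_card (n := 1) (by rw [Nat.card_zpowers, Subgroup.orderOf_mk, hw, pow_one]) :
        IsPGroup 2 (zpowers (⟨w, hwM⟩ : d.M)))
    have h1 := hk (CfsgLib.TwoGroups.conj_mem_map_conj (mem_zpowers (⟨w, hwM⟩ : d.M)))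
    rw [Sylow.coe_subtype, mem_subgroupOf] at h1
    obtain ⟨m, hm, hmw⟩ := hmain _ h1 (by
      show orderOf ((k : G) * w * (k : G)⁻¹) = 2
      rw [orderOf_conj]; exact hw)
    have hm' : (k : G)⁻¹ * m ∈ d.M := mul_mem (inv_mem k.2) hm
    have e1 : (k : G)⁻¹ * m * d.t * ((k : G)⁻¹ * m)⁻¹ = w := by
      rw [show (k : G)⁻¹ * m * d.t * ((k : G)⁻¹ * m)⁻¹ = (k : G)⁻¹ * (m * d.t * m⁻¹) * k by group, hmw]
      show (k : G)⁻¹ * ((k : G) * w * (k : G)⁻¹) * k = w
      group
    refine ⟨⟨_, hm', e1⟩, fun c hc => ?_⟩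
    set j := (k : G)⁻¹ * m with hj
    have h2 : j⁻¹ * c * j ∈ centralizer ({d.t} : Set G) := mem_centralizer_of_commute (by
      have h3 := (commute_of_mem_centralizer hc).map (MulAut.conj j⁻¹).toMonoidHom
      rw [← e1] at h3
      simpa [mul_assoc] using h3)
    have h4 := mul_mem (mul_mem hm' (d.centralizer_t_le σ hr h2)) (inv_mem hm')
    rwa [show j * (j⁻¹ * c * j) * j⁻¹ = c by group] at h4
  intro v hv hvo
  by_cases hvt : v = d.t
  · exact ⟨1, one_mem _, by rw [hvt]; group⟩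
  have hvc : Commute d.t v := (commute_of_mem_centralizer (hSC hv)).symm
  rcases Nat.lt_or_ge σ.n 2 with hn | hn
  · -- Klein four: `v` is `u` or `tu`
    have hn1 : σ.n = 1 := by have := σ.pos; omega
    have huv : Commute d.u v := by
      have h1 := σ.sq_one_of_n_one hn1 S.2 (mul_mem huS hv)
      calc d.u * v = (d.u * v)⁻¹ := (inv_eq_of_mul_eq_one_right h1).symm
        _ = v * d.u := by rw [mul_inv_rev, involution_inv hvo, involution_inv d.rot.hu]
    rcases three_involutions σ.inj σ.range σ.pos d.rot.ht d.rot.hu (involution_sq hvo) d.rot.ne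
      d.rot.comm hvc huv with e | e | e | e
    · exact absurd e (involution_ne_one hvo)
    · exact absurd e hvt
    · exact ⟨d.g, hgM, e ▸ d.rot.conj1⟩
    · refine ⟨d.g * d.g, mul_mem hgM hgM, ?_⟩
      rw [e, ← d.rot.conj2, ← d.rot.conj1]; group
  · -- one of `v`, `tv` fixes a point of `A`
    have hvA : v ∈ normalizer (d.A : Set G) := d.normalizer_le_normalizer_A (hSN hv)
    obtain ⟨a, ha, hat⟩ : ∃ a ∈ d.A, ¬ Commute a d.t := by
      obtain ⟨e, he, he1, het⟩ := d.exists_fixed σ hr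
      have heu : Commute (d.g * e * d.g⁻¹) d.u := d.rot.conj1 ▸ het.map (MulAut.conj d.g).toMonoidHom
      refine ⟨_, d.conj_g_mem he, fun h => he1 (conj_eq_one_iff.1 (σ.fpf d.t d.u _ d.rot.ht d.rot.hu
        d.rot.ne d.rot.comm ?_ h heu))⟩
      exact odd_orderOf_of_mem (d.A_odd hr) (d.conj_g_mem he)
    obtain ⟨b, hb, hb1, hbv | hbv⟩ := σ.exists_fixed_other (d.A_odd hr) d.rot.ht hvo (Ne.symm hvt)
      hvc (four_le (d.normalizer_le_normalizer_A d.ht) hvA) ha hat
    · exact d.conj_in_M σ hr hvo hb hb1 hbv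
    · obtain ⟨g', hg'⟩ := σ.exists_rot_of_pair d.rot.ht hvo (Ne.symm hvt) hvc
      obtain ⟨m, hm, hmv⟩ := d.conj_in_M σ hr hg'.prod_order hb hb1 hbv
      obtain ⟨c, hct, hcv⟩ := σ.exists_swap hn d.rot.ht hvo (Ne.symm hvt) hvc
      have hcM : c ∈ d.M := d.centralizer_t_le σ hr
        (mem_centralizer_of_commute (commute_of_conj_eq hct))
      refine ⟨c⁻¹ * m, mul_mem (inv_mem hcM) hm, ?_⟩
      rw [show c⁻¹ * m * d.t * (c⁻¹ * m)⁻¹ = c⁻¹ * (m * d.t * m⁻¹) * c by group, hmv, ← hcv]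
      group

end ZJData

end CfsgLib.GW
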