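import Cfsg.Agent.Lib.GW.Control
import Cfsg.Agent.Lib.GW.BlockBounds
import Cfsg.Agent.Lib.Perm.AltDerange.Cases

/-!
# No invariant `Z(J(R))` in a simple group

A proper subgroup containing the centralisers of its involutions with one class of them would
have index at most five.
-/

set_option autoImplicit false

namespace CfsgLib.GW

open Subgroup Cfsg DihedralGroup
open CfsgLib.TwoGroups CfsgLib.TwoGroups.Dihedral
open CfsgLib.Signalizer (orderOf_conj)

universe u

variable {G : Type u} [Group G] [Finite G]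

/-- A centraliser lying in a subgroup has the same order there. -/
theorem card_centralizer_subgroup {M : Subgroup G} (s : Set M)
    (h : centralizer ((fun x : M => (x : G)) '' s) ≤ M) :
    Nat.card (centralizer s) = Nat.card (centralizer ((fun x : M => (x : G)) '' s)) := by
  refine (Nat.card_congr ((subgroupOfEquivOfLe h).toEquiv)).symm.trans ?_ |>.symm
  refine Nat.card_congr (MulEquiv.subgroupCongr ?_).toEquiv
  ext x
  rw [mem_subgroupOf, mem_centralizer_iff, mem_centralizer_iff]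
  constructor
  · intro h2 y hy
    exact Subtype.ext (h2 _ ⟨y, hy, rfl⟩)
  · rintro h2 _ ⟨y, hy, rfl⟩
    exact congrArg Subtype.val (h2 y hy)

namespace Setting

variable (σ : Setting G)

include σ in
/-- The setting rebased at another Sylow subgroup. -/
theorem exists_model_at (S : Sylow 2 G) :
    ∃ f : DihedralGroup (2 ^ σ.n) →* G, Function.Injective f ∧ f.range = (S : Subgroup G) := by
  have : Fact (Nat.Prime 2) := ⟨Nat.prime_two⟩
  obtain ⟨c, hc⟩ := MulAction.exists_smul_eq G σ.S S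
  refine ⟨(MulAut.conj c).toMonoidHom.comp σ.f, (MulAut.conj c).injective.comp σ.inj, ?_⟩
  rw [MonoidHom.range_comp, σ.range, ← hc]
  rfl

end Setting

/-- A proper subgroup with one class of involutions and all their centralisers has index at most five. -/
theorem index_le_five [IsSimpleGroup G] (σ : Setting G) (M : Subgroup G) (S : Sylow 2 G)
    (hSM : (S : Subgroup G) ≤ M)
    (hone : ∀ a b : G, orderOf a = 2 → orderOf b = 2 → a ∈ M → b ∈ M → ∃ m ∈ M, m * a * m⁻¹ = b)
    (hcen : ∀ a : G, orderOf a = 2 → a ∈ M → centralizer ({a} : Set G) ≤ M) : M.index ≤ 5 := by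
  classical
  have : Fact (Nat.Prime 2) := ⟨Nat.prime_two⟩
  obtain ⟨Mi, hMi⟩ := CfsgLib.ZStar.exists_isPModular Nat.prime_two
  obtain ⟨f, hf, hS⟩ := σ.exists_model_at S
  have hfM : ∀ a, f a ∈ M := fun a => hSM (hS ▸ ⟨a, rfl⟩)
  set fM : DihedralGroup (2 ^ σ.n) →* M := f.codRestrict M hfM with hfMdef
  have hfMi : Function.Injective fM := fun a b e => hf (congrArg Subtype.val e)
  have hfMS : fM.range = ((S.subtype hSM : Sylow 2 M) : Subgroup M) := by
    ext x
    rw [Sylow.coe_subtype, mem_subgroupOf, ← hS]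
    constructor
    · rintro ⟨a, rfl⟩; exact ⟨a, rfl⟩
    · rintro ⟨a, ha⟩; exact ⟨a, Subtype.ext ha⟩
  have honeM : ∀ a b : M, orderOf a = 2 → orderOf b = 2 → IsConj a b := by
    intro a b ha hb
    rw [← Subgroup.orderOf_coe] at ha hb
    obtain ⟨m, hm, e⟩ := hone _ _ ha hb a.2 b.2
    exact isConj_iff.2 ⟨⟨m, hm⟩, Subtype.ext e⟩
  set z := f (r (half σ.n)) with hz
  have hzo : orderOf z = 2 := orderOf_half hf σ.pos
  have hzC : centralizer ({z} : Set G) ≤ M := hcen z hzo (hfM _)
  have hcz : ∀ s : Set M, fM (r (half σ.n)) ∈ s →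
      Nat.card (centralizer s) = Nat.card (centralizer ((fun x : M => (x : G)) '' s)) := fun s hs =>
    card_centralizer_subgroup s (le_trans (centralizer_le (s := ({z} : Set G))
      (Set.singleton_subset_iff.2 (show z ∈ (fun x : M => (x : G)) '' s from ⟨fM (r (half σ.n)), hs, rfl⟩))) hzC)
  have hidx : (Nat.card G : ℚ) = (M.index : ℚ) * (Nat.card M : ℚ) := by
    rw [← Nat.cast_mul, M.index_mul_card]
  have hMpos : (0 : ℚ) < Nat.card M := Nat.cast_pos.2 Nat.card_pos
  suffices h : (M.index : ℚ) * (Nat.card M : ℚ) ≤ 5 * (Nat.card M : ℚ) by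
    exact_mod_cast le_of_mul_le_mul_right h hMpos
  rcases Nat.lt_or_ge σ.n 2 with hn | hn
  · have hn1 : σ.n = 1 := by have := σ.pos; omega
    obtain ⟨α, hα, -, hαle⟩ := klein_bounds hf hS hn1 σ.one_class Mi hMi
    obtain ⟨β, hβ, hβge, -⟩ := klein_bounds hfMi hfMS hn1 honeM Mi hMi
    rw [hcz {fM (r (half σ.n))} (Set.mem_singleton _), hcz _ (by rw [SetLike.mem_coe, Sylow.coe_subtype, mem_subgroupOf]; exact hS ▸ ⟨_, rfl⟩),
      Set.image_singleton] at hβ
    rw [show ((fun x : M => (x : G)) '' (((S.subtype hSM : Sylow 2 M) : Subgroup M) : Set M)) =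
      ((S : Subgroup G) : Set G) by
      ext x
      rw [Sylow.coe_subtype]
      exact ⟨fun ⟨y, hy, e⟩ => e ▸ hy, fun hx => ⟨⟨x, hSM hx⟩, hx, rfl⟩⟩] at hβ
    set c : ℚ := (Nat.card (centralizer ({z} : Set G)) : ℚ) ^ 3 /
      (Nat.card (centralizer ((S : Subgroup G) : Set G)) : ℚ) ^ 2 with hc
    have e1 : (M.index : ℚ) * (Nat.card M : ℚ) = 8 * α * c := by rw [← hidx, hα, hc]; ring
    have e2 : (Nat.card M : ℚ) = 8 * β * c := by
      rw [hβ, hc, hz, hfMdef]
      simp only [MonoidHom.codRestrict_apply]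
      ring
    have hc0 : 0 ≤ c := by rw [hc]; positivity
    rw [e1, e2]
    have := hαle inferInstance
    nlinarith
  · obtain ⟨α, hα, -, hαle⟩ := dihedral_bounds hf hS hn σ.one_class Mi hMi
    obtain ⟨β, hβ, hβge, -⟩ := dihedral_bounds hfMi hfMS hn honeM Mi hMi
    rw [hcz {fM (r (half σ.n))} (Set.mem_singleton _), hcz {fM (r (half σ.n)), fM (sr 0)} (by simp),
      hcz {fM (r (half σ.n)), fM (r 1) * fM (sr 0)} (by simp), Set.image_pair, Set.image_pair,
      Set.image_singleton] at hβ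
    set c : ℚ := (Nat.card (centralizer ({z} : Set G)) : ℚ) ^ 3 *
        (1 / (Nat.card (centralizer ({z, f (sr 0)} : Set G)) : ℚ) +
          1 / (Nat.card (centralizer ({z, f (r 1) * f (sr 0)} : Set G)) : ℚ)) ^ 2 with hc
    have e1 : (M.index : ℚ) * (Nat.card M : ℚ) = 2 * α * c := by rw [← hidx, hα, hc]; ring
    have e2 : (Nat.card M : ℚ) = 2 * β * c := by
      rw [hβ, hc, hz, hfMdef, Subgroup.coe_mul]
      simp only [MonoidHom.codRestrict_apply]
      ring
    have hc0 : 0 ≤ c := by rw [hc]; positivity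
    rw [e1, e2]
    have := hαle inferInstance
    nlinarith

/-- A simple group has no such data. -/
theorem no_zjData [IsSimpleGroup G] (σ : Setting G) {r : ℕ} [Fact r.Prime] (hr : r ≠ 2)
    (d : ZJData G r) : False := by
  classical
  obtain ⟨-, -, hinv⟩ := d.involutions_M σ hr
  obtain ⟨S, hSC, htS, huS⟩ := σ.exists_sylow_centralizing d.rot.ht d.rot.hu d.rot.comm
  have hSM : (S : Subgroup G) ≤ d.M :=
    (d.sylow_le_normalizer σ hr hSC htS huS).trans d.normalizer_le_M
  have hle := index_le_five σ d.M S hSM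
    (fun a b ha hb haM hbM => by
      obtain ⟨⟨m₁, hm₁, e₁⟩, -⟩ := hinv a ha haM
      obtain ⟨⟨m₂, hm₂, e₂⟩, -⟩ := hinv b hb hbM
      refine ⟨m₂ * m₁⁻¹, mul_mem hm₂ (inv_mem hm₁), ?_⟩
      rw [← e₁, ← e₂]; group)
    (fun a ha haM => (hinv a ha haM).2)
  have hdvd : Nat.card G ∣ (5).factorial :=
    (CfsgLib.Perm.AltDerange.card_dvd_factorial_index (d.M_ne_top σ hr)).trans
      (Nat.factorial_dvd_factorial hle)
  have hA : r ^ 3 ∣ Nat.card G := by
    obtain ⟨k, hk⟩ := IsPGroup.iff_card.1 d.A_isPGroup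
    have h3 : 3 ≤ k := by
      have := d.card_A σ hr
      rw [hk] at this
      exact (Nat.pow_le_pow_iff_right (Fact.out : r.Prime).one_lt).1 this
    exact (hk ▸ pow_dvd_pow r h3 : r ^ 3 ∣ Nat.card d.A).trans (Subgroup.card_subgroup_dvd_card d.A)
  have hr3 : r ^ 3 ∣ 15 := by
    refine Nat.Coprime.dvd_of_dvd_mul_left
      (Nat.Coprime.pow 3 3 ((Nat.coprime_primes (Fact.out : r.Prime) Nat.prime_two).2 hr)) ?_
    exact (hA.trans hdvd).trans (by rfl)
  have h1 := Nat.le_of_dvd (by norm_num) hr3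
  have h2 : 3 ≤ r := by have := (Fact.out : r.Prime).two_le; omega
  nlinarith [Nat.pow_le_pow_left h2 3]

end CfsgLib.GW
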