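import Cfsg.Prelude.Def_Local
import Mathlib.GroupTheory.SpecificGroups.Dihedral
import Mathlib.LinearAlgebra.Matrix.ProjectiveSpecialLinearGroup

/-!
# The Gorenstein-Walter statement as a hypothesis

`GWStatement` has the type of statement S0483, so results that only need it can be developed
with it as a hypothesis and closed by one application later.
-/

set_option autoImplicit false

namespace CfsgLib.GW

universe u

/-- Perfect groups with dihedral Sylow 2-subgroups are `PSL(2, q)` or `A₇` modulo the core. -/
def GWStatement : Prop :=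
  ∀ (X : Type u) [Group X] [Finite X] [Group.IsPerfect X]
    (S : Sylow 2 X) (n : ℕ), 2 ≤ n → Nonempty ((S : Subgroup X) ≃* DihedralGroup n) →
    (∃ (F : Type) (_ : Field F) (_ : Fintype F), Odd (Fintype.card F) ∧ 3 < Fintype.card F ∧
        Nonempty (X ⧸ Cfsg.oddCore X ≃* Matrix.ProjectiveSpecialLinearGroup (Fin 2) F)) ∨
      Nonempty (X ⧸ Cfsg.oddCore X ≃* alternatingGroup (Fin 7))

end CfsgLib.GW
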