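import Cfsg.Agent.Lib.TwoGroups.DihedralFusion
import Cfsg.Agent.Lib.Transfer.Fusion
import Cfsg.Agent.Lib.Signalizer.Involutions

/-!
# Rotations of four-groups in groups with dihedral Sylow 2-subgroups

If a subgroup has no normal 2-complement it contains two commuting involutions `t`, `u` and an
element permuting `t`, `u`, `tu` cyclically.
-/

set_option autoImplicit false

namespace CfsgLib.GW

open Subgroup DihedralGroup
open CfsgLib.TwoGroups CfsgLib.TwoGroups.Dihedral
open CfsgLib.Signalizer (involution_sq involution_inv involution_ne_one orderOf_eq_two_of orderOf_conj)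

/-- Two commuting involutions and an element permuting them and their product cyclically. -/
structure Rot {G : Type*} [Group G] (t u g : G) : Prop where
  ht : orderOf t = 2
  hu : orderOf u = 2
  ne : t ≠ u
  comm : Commute t u
  conj1 : g * t * g⁻¹ = u
  conj2 : g * u * g⁻¹ = t * u

section Model

variable {n : ℕ}

/-- Commuting involutions of a dihedral `2`-group lie in one four-group. -/
theorem model_three (hn : 1 ≤ n) {a b c : DihedralGroup (2 ^ n)} (ha : a * a = 1) (hb : b * b = 1)
    (hc : c * c = 1) (ha1 : a ≠ 1) (hb1 : b ≠ 1) (hab : a ≠ b) (h1 : Commute a b)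
    (h2 : Commute a c) (h3 : Commute b c) : c = 1 ∨ c = a ∨ c = b ∨ c = a * b := by
  have hh := half_add_half hn
  have key : ∀ i j : ZMod (2 ^ n), Commute (sr i) (sr j) → j = i ∨ j = i + half n := by
    intro i j h
    have h' : sr i * sr j = sr j * sr i := h
    rw [sr_mul_sr, sr_mul_sr, r.injEq] at h'
    rcases (two_mul_eq_zero_iff hn (a := j - i)).1 (by linear_combination h') with e | e
    · exact Or.inl (sub_eq_zero.1 e)
    · exact Or.inr (by linear_combination e)
  have hne : ∀ i : ZMod (2 ^ n), r i * r i = 1 → r i ≠ 1 → i = half n := by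
    intro i h h'
    rcases sq_eq_one_r hn h with e | rfl
    · exact absurd e h'
    · rfl
  have h0 : (1 : DihedralGroup (2 ^ n)) = r 0 := rfl
  rcases a with i | i <;> rcases b with j | j
  · obtain rfl := hne i ha ha1
    obtain rfl := hne j hb hb1
    exact absurd rfl hab
  · obtain rfl := hne i ha ha1
    rcases c with k | k
    · rcases sq_eq_one_r hn hc with e | rfl
      · exact Or.inl e
      · exact Or.inr (Or.inl rfl)
    · rcases key j k h3 with rfl | rfl
      · exact Or.inr (Or.inr (Or.inl rfl))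
      · refine Or.inr (Or.inr (Or.inr ?_))
        rw [r_mul_sr, sub_eq_add_neg, neg_half hn]
  · obtain rfl := hne j hb hb1
    rcases c with k | k
    · rcases sq_eq_one_r hn hc with e | rfl
      · exact Or.inl e
      · exact Or.inr (Or.inr (Or.inl rfl))
    · rcases key i k h2 with rfl | rfl
      · exact Or.inr (Or.inl rfl)
      · refine Or.inr (Or.inr (Or.inr ?_))
        rw [sr_mul_r]
  · rcases key i j h1 with rfl | rfl
    · exact absurd rfl hab
    rcases c with k | k
    · rcases sq_eq_one_r hn hc with e | rfl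
      · exact Or.inl e
      · refine Or.inr (Or.inr (Or.inr ?_))
        rw [sr_mul_sr, add_sub_cancel_left]
    · rcases key i k h2 with rfl | rfl
      · exact Or.inr (Or.inl rfl)
      · exact Or.inr (Or.inr (Or.inl rfl))

/-- An automorphism of odd order of a subgroup of a dihedral `2`-group is trivial unless every
element squares to one. -/
theorem model_aut (hn : 1 ≤ n) (Q : Subgroup (DihedralGroup (2 ^ n))) (φ : MulAut Q) {m : ℕ}
    (hm : Odd m) (hφ : φ ^ m = 1) : φ = 1 ∨ ∀ a ∈ Q, a * a = 1 := by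
  classical
  haveI : NeZero (2 ^ n) := ⟨pow_ne_zero _ two_ne_zero⟩
  by_cases hall : ∀ a ∈ Q, a * a = 1
  · exact Or.inr hall
  refine Or.inl ?_
  push Not at hall
  obtain ⟨a₀, ha₀, ha₀2⟩ := hall
  obtain ⟨i₀, rfl⟩ : ∃ i, a₀ = r i := by
    rcases a₀ with i | i
    · exact ⟨i, rfl⟩
    · exact absurd (sr_mul_self i) ha₀2
  -- rotations go to rotations
  have hrot : ∀ (ψ : MulAut Q) (x : Q) (i : ZMod (2 ^ n)), (x : DihedralGroup (2 ^ n)) = r i →
      ∃ j, (ψ x : DihedralGroup (2 ^ n)) = r j := by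
    intro ψ x i hx
    set w : Q := ψ ⟨r i₀, ha₀⟩ with hw
    obtain ⟨k, hk⟩ : ∃ k, (w : DihedralGroup (2 ^ n)) = r k := by
      rcases hwc : (w : DihedralGroup (2 ^ n)) with k | k
      · exact ⟨k, rfl⟩
      · exfalso
        have h1 : w * w = 1 := Subtype.ext (by rw [coe_mul, hwc, sr_mul_self, coe_one])
        rw [hw, ← map_mul] at h1
        exact ha₀2 (congrArg Subtype.val
          (ψ.injective (h1.trans (map_one ψ).symm) : (⟨r i₀, ha₀⟩ : Q) * ⟨r i₀, ha₀⟩ = 1))
    rcases hc : (ψ x : DihedralGroup (2 ^ n)) with j | j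
    · exact ⟨j, rfl⟩
    exfalso
    have hcm : x * ⟨r i₀, ha₀⟩ = ⟨r i₀, ha₀⟩ * x := Subtype.ext (by
      rw [coe_mul, coe_mul, hx]
      show r i * r i₀ = r i₀ * r i
      rw [r_mul_r, r_mul_r, add_comm])
    have h2 := congrArg (fun y : Q => (ψ y : DihedralGroup (2 ^ n))) hcm
    simp only [map_mul, coe_mul, ← hw, hk, hc, sr_mul_r, r_mul_sr, sr.injEq] at h2
    have h3 : w * w = 1 := Subtype.ext (by
      rw [coe_mul, hk, coe_one, r_mul_r, show k + k = 0 by linear_combination h2]; rfl)
    rw [hw, ← map_mul] at h3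
    exact ha₀2 (congrArg Subtype.val
      (ψ.injective (h3.trans (map_one ψ).symm) : (⟨r i₀, ha₀⟩ : Q) * ⟨r i₀, ha₀⟩ = 1))
  -- a translation by a fixed element is trivial
  have hiter : ∀ (x c : Q), φ x = x * c → φ c = c → c = 1 := by
    intro x c hx hc
    have hk : ∀ k : ℕ, (φ ^ k) x = x * c ^ k := by
      intro k
      induction k with
      | zero => rw [pow_zero, pow_zero, mul_one]; rfl
      | succ k ih => rw [pow_succ', MulAut.mul_apply, ih, map_mul, map_pow, hx, hc, mul_assoc,
          ← pow_succ']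
    have h1 := hk m
    rw [hφ, MulAut.one_apply, left_eq_mul] at h1
    have h2 : orderOf (c : DihedralGroup (2 ^ n)) ∣ m :=
      orderOf_dvd_of_pow_eq_one (by rw [← coe_pow, h1, coe_one])
    have h3 : orderOf (c : DihedralGroup (2 ^ n)) ∣ 2 ^ (n + 1) := by
      have := orderOf_dvd_natCard (c : DihedralGroup (2 ^ n))
      rwa [DihedralGroup.nat_card, ← pow_succ'] at this
    exact Subtype.ext (orderOf_eq_one_iff.1 (Nat.eq_one_of_dvd_coprimes
      ((Nat.coprime_two_right.2 hm).pow_right (n + 1)) h2 h3))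
  have hfixrot : ∀ (d : ℕ) (x : Q) (i : ZMod (2 ^ n)), orderOf x = d →
      (x : DihedralGroup (2 ^ n)) = r i → φ x = x := by
    intro d
    induction d using Nat.strong_induction_on with
    | _ d ih =>
      intro x i hd hx
      rcases eq_or_ne x 1 with rfl | hx1
      · exact map_one φ
      obtain ⟨j, hj⟩ := hrot φ x i hx
      have hlt : orderOf (x * x) < d := by
        obtain ⟨k, hk⟩ := (Nat.dvd_prime_pow Nat.prime_two).1 (show orderOf x ∣ 2 ^ (n + 1) by
          have := orderOf_dvd_natCard (x : DihedralGroup (2 ^ n))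
          rwa [DihedralGroup.nat_card, ← pow_succ', Subgroup.orderOf_coe] at this)
        obtain ⟨-, hk⟩ := hk
        have hk1 : k ≠ 0 := fun e => hx1 (orderOf_eq_one_iff.1 (by rw [hk, e, pow_zero]))
        rw [← pow_two, orderOf_pow_of_dvd two_ne_zero (by rw [hk]; exact dvd_pow_self 2 hk1), ← hd]
        exact Nat.div_lt_self (orderOf_pos x) one_lt_two
      have hsq : φ (x * x) = x * x := ih _ hlt _ (i + i) rfl (by rw [coe_mul, hx, r_mul_r])
      have h2 : (φ x * φ x : Q) = x * x := by rw [← map_mul, hsq]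
      have h2' := congrArg (Subtype.val) h2
      rw [coe_mul, coe_mul, hj, hx, r_mul_r, r_mul_r, r.injEq] at h2'
      rcases (two_mul_eq_zero_iff hn (a := j - i)).1 (by linear_combination h2') with e | e
      · exact Subtype.ext (by rw [hj, hx, sub_eq_zero.1 e])
      exfalso
      set c : Q := x⁻¹ * φ x with hc
      have hcv : (c : DihedralGroup (2 ^ n)) = r (half n) := by
        rw [hc, coe_mul, coe_inv, hj, hx, inv_r, r_mul_r, ← e, neg_add_eq_sub]
      have hc1 : c ≠ 1 := fun e => half_ne_zero hn (by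
        have h1 := congrArg Subtype.val e
        rw [hcv, coe_one, one_def, r.injEq] at h1
        exact h1)
      refine hc1 (hiter x c (by rw [hc, mul_inv_cancel_left]) ?_)
      obtain ⟨l, hl⟩ := hrot φ c _ hcv
      have hcc : c * c = 1 := Subtype.ext (by
        rw [coe_mul, hcv, coe_one, r_mul_r, half_add_half hn]; rfl)
      have hll : r l * r l = (1 : DihedralGroup (2 ^ n)) := by
        rw [← hl, ← coe_mul, ← map_mul, hcc, map_one, coe_one]
      rcases sq_eq_one_r hn hll with e | rfl
      · exact absurd (φ.injective (show φ c = φ 1 by rw [map_one]; exact Subtype.ext (hl.trans e))) hc1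
      · exact Subtype.ext (hl.trans hcv.symm)
  have hfix : ∀ x : Q, φ x = x := by
    intro x
    rcases hx : (x : DihedralGroup (2 ^ n)) with i | i
    · exact hfixrot _ x i rfl hx
    obtain ⟨j, hj⟩ : ∃ j, (φ x : DihedralGroup (2 ^ n)) = sr j := by
      rcases hc : (φ x : DihedralGroup (2 ^ n)) with j | j
      · exfalso
        obtain ⟨k, hk⟩ := hrot φ⁻¹ (φ x) j hc
        rw [MulAut.inv_apply, MulEquiv.symm_apply_apply, hx] at hk
        cases hk
      · exact ⟨j, rfl⟩
    have hcv : ((x⁻¹ * φ x : Q) : DihedralGroup (2 ^ n)) = r (j - i) := by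
      rw [coe_mul, coe_inv, hx, hj, inv_sr, sr_mul_sr]
    have h1 := hiter x (x⁻¹ * φ x) (mul_inv_cancel_left _ _).symm (hfixrot _ _ _ rfl hcv)
    exact (inv_mul_eq_one.1 h1).symm
  exact MulEquiv.ext hfix

end Model

variable {G : Type*} [Group G] [Finite G] {n : ℕ} {S : Sylow 2 G}
  {f : DihedralGroup (2 ^ n) →* G}

/-- A `2`-subgroup embeds in the model by a conjugation. -/
theorem exists_pull (hS : f.range = (S : Subgroup G)) {Q : Subgroup G} (hQ : IsPGroup 2 Q) :
    ∃ x : G, ∀ q ∈ Q, ∃ a, f a = x * q * x⁻¹ := by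
  obtain ⟨x, hx⟩ := CfsgLib.TwoGroups.exists_conj_le_sylow S hQ
  exact ⟨x, fun q hq => (hS ▸ hx) (CfsgLib.TwoGroups.conj_mem_map_conj hq)⟩

/-- Pairwise commuting involutions span at most a four-group. -/
theorem three_involutions (hf : Function.Injective f) (hS : f.range = (S : Subgroup G)) (hn : 1 ≤ n)
    {a b c : G} (ha : orderOf a = 2) (hb : orderOf b = 2) (hc : c * c = 1) (hab : a ≠ b)
    (h1 : Commute a b) (h2 : Commute a c) (h3 : Commute b c) :
    c = 1 ∨ c = a ∨ c = b ∨ c = a * b := by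
  classical
  have ha2 := involution_sq ha
  have hb2 := involution_sq hb
  have hQ : IsPGroup 2 (closure ({a, b, c} : Set G)) := by
    letI : CommGroup (closure ({a, b, c} : Set G)) := Subgroup.closureCommGroupOfComm (by
      intro x hx y hy
      rcases hx with rfl | rfl | rfl <;> rcases hy with rfl | rfl | rfl <;>
        first | rfl | exact h1.eq | exact h1.eq.symm | exact h2.eq | exact h2.eq.symm |
          exact h3.eq | exact h3.eq.symm)
    intro x
    refine ⟨1, Subtype.ext ?_⟩
    rw [pow_one, coe_pow, coe_one]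
    obtain ⟨x, hx⟩ := x
    show x ^ 2 = 1
    induction hx using closure_induction with
    | mem y hy => rcases hy with rfl | rfl | rfl <;> (rw [pow_two]; assumption)
    | one => exact one_pow 2
    | mul y z hy hz ihy ihz =>
      have hyz : Commute y z := congrArg Subtype.val
        (mul_comm (⟨y, hy⟩ : closure ({a, b, c} : Set G)) ⟨z, hz⟩)
      rw [hyz.mul_pow, ihy, ihz, one_mul]
    | inv y _ ih => rw [inv_pow, ih, inv_one]
  obtain ⟨x, hx⟩ := exists_pull hS hQ
  obtain ⟨a', ha'⟩ := hx a (subset_closure (by simp))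
  obtain ⟨b', hb'⟩ := hx b (subset_closure (by simp))
  obtain ⟨c', hc'⟩ := hx c (subset_closure (by simp))
  have e2 : ∀ {p q : G} {p' q' : DihedralGroup (2 ^ n)}, f p' = x * p * x⁻¹ → f q' = x * q * x⁻¹ →
      f (p' * q') = x * (p * q) * x⁻¹ := fun hp hq => by rw [map_mul, hp, hq]; group
  have hone : f 1 = x * 1 * x⁻¹ := by rw [map_one, mul_one, mul_inv_cancel]
  have heq : ∀ {p q : G} {p' q' : DihedralGroup (2 ^ n)}, f p' = x * p * x⁻¹ → f q' = x * q * x⁻¹ →
      (p' = q' ↔ p = q) := fun hp hq => by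
    refine ⟨fun e => ?_, fun e => hf (by rw [hp, hq, e])⟩
    rw [e, hq] at hp
    exact (mul_left_cancel (mul_right_cancel hp)).symm
  have := model_three hn ((heq (e2 ha' ha') hone).2 ha2) ((heq (e2 hb' hb') hone).2 hb2)
    ((heq (e2 hc' hc') hone).2 hc) (fun e => involution_ne_one ha ((heq ha' hone).1 e))
    (fun e => involution_ne_one hb ((heq hb' hone).1 e)) (fun e => hab ((heq ha' hb').1 e))
    ((heq (e2 ha' hb') (e2 hb' ha')).2 h1.eq) ((heq (e2 ha' hc') (e2 hc' ha')).2 h2.eq)
    ((heq (e2 hb' hc') (e2 hc' hb')).2 h3.eq)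
  rcases this with e | e | e | e
  · exact Or.inl ((heq hc' hone).1 e)
  · exact Or.inr (Or.inl ((heq hc' ha').1 e))
  · exact Or.inr (Or.inr (Or.inl ((heq hc' hb').1 e)))
  · exact Or.inr (Or.inr (Or.inr ((heq hc' (e2 ha' hb')).1 e)))

/-- A subgroup without a normal `2`-complement contains a rotated four-group. -/
theorem exists_rot (hf : Function.Injective f) (hS : f.range = (S : Subgroup G)) (hn : 1 ≤ n)
    (X : Subgroup G) (h : ¬ Cfsg.HasNormalPComplement 2 X) :
    ∃ t u g, t ∈ X ∧ u ∈ X ∧ g ∈ X ∧ Rot t u g := by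
  classical
  have : Fact (Nat.Prime 2) := ⟨Nat.prime_two⟩
  obtain ⟨P⟩ : Nonempty (Sylow 2 X) := inferInstance
  rw [CfsgLib.Transfer.hasNormalPComplement_iff_centralizes P] at h
  push Not at h
  obtain ⟨Q, hQP, g, hgN, hgodd, hgC⟩ := h
  have hgo : Odd (orderOf (g : G)) := by
    rw [Subgroup.orderOf_coe]; exact Nat.coprime_two_right.1 hgodd
  set R : Subgroup G := Q.map X.subtype with hR
  have hRp : IsPGroup 2 R := (P.2.to_le hQP).map _
  have hgR : ∀ q ∈ R, (g : G) * q * (g : G)⁻¹ ∈ R := by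
    rintro _ ⟨q, hq, rfl⟩
    exact ⟨g * q * g⁻¹, (mem_normalizer_iff.1 hgN q).1 hq, rfl⟩
  have hgN' : (g : G) ∈ normalizer (R : Set G) :=
    mem_normalizer_iff.2 fun q => ⟨hgR q, fun hq => by
      obtain ⟨q', hq', e⟩ := hq
      refine ⟨g⁻¹ * q' * g, (mem_normalizer_iff''.1 hgN q').1 hq', ?_⟩
      show (g : G)⁻¹ * (q' : G) * g = q
      rw [show (q' : G) = g * q * (g : G)⁻¹ from e]; group⟩
  obtain ⟨x, hx⟩ := exists_pull hS hRp
  set Q' : Subgroup (DihedralGroup (2 ^ n)) := (R.map (MulAut.conj x).toMonoidHom).comap f with hQ'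
  have hle : R.map (MulAut.conj x).toMonoidHom ≤ f.range := by
    rintro _ ⟨q, hq, rfl⟩
    exact hx q hq
  let e : R ≃* Q' := (R.equivMapOfInjective _ (MulAut.conj x).injective).trans
    ((Q'.equivMapOfInjective f hf).trans (MulEquiv.subgroupCongr (map_comap_eq_self hle))).symm
  let φ : MulAut R := normalizerMonoidHom R ⟨g, hgN'⟩
  have hφm : φ ^ orderOf (g : G) = 1 := by
    rw [← map_pow, show (⟨g, hgN'⟩ : normalizer (R : Set G)) ^ orderOf (g : G) = 1 from
      Subtype.ext (pow_orderOf_eq_one _), map_one]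
  rcases model_aut hn Q' (MulAut.congr e φ) hgo (by rw [← map_pow, hφm, map_one]) with h1 | h1
  · exfalso
    rw [MulEquiv.map_eq_one_iff] at h1
    refine hgC (mem_centralizer_iff.2 fun q hq => Subtype.ext ?_)
    have h2 := congrArg (fun ψ : MulAut R => ((ψ ⟨q, mem_map_of_mem _ hq⟩ : R) : G)) h1
    have h3 : (g : G) * q * (g : G)⁻¹ = q := h2
    show (q : G) * g = g * q
    nth_rewrite 1 [← h3]
    group
  · have hsq : ∀ q ∈ R, q * q = 1 := by
      intro q hq
      have h2 : e (⟨q, hq⟩ * ⟨q, hq⟩) = 1 := by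
        rw [map_mul]; exact Subtype.ext (h1 _ (e ⟨q, hq⟩).2)
      exact congrArg Subtype.val (e.injective (h2.trans (map_one e).symm))
    obtain ⟨q, hqQ, hq⟩ : ∃ q ∈ Q, q * g ≠ g * q := by
      by_contra hno
      push Not at hno
      exact hgC (mem_centralizer_iff.2 hno)
    have hqR : (q : G) ∈ R := mem_map_of_mem _ hqQ
    have hq1 : (q : G) ≠ 1 := fun e => hq (by
      obtain rfl : q = 1 := Subtype.ext e
      simp)
    set t : G := (q : G) with ht
    set u : G := g * t * (g : G)⁻¹ with hu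
    have hto : orderOf t = 2 := orderOf_eq_two_of hq1 (hsq _ hqR)
    have huo : orderOf u = 2 := by rw [hu, orderOf_conj]; exact hto
    have hcm : ∀ a ∈ R, ∀ b ∈ R, Commute a b := by
      intro a ha b hb
      have h2 := hsq _ (mul_mem ha hb)
      calc a * b = (a * b)⁻¹ := (inv_eq_of_mul_eq_one_right h2).symm
        _ = b * a := by rw [mul_inv_rev, inv_eq_of_mul_eq_one_right (hsq a ha),
          inv_eq_of_mul_eq_one_right (hsq b hb)]
    have hne : t ≠ u := fun e => hq (Subtype.ext (show t * (g : G) = g * t by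
      nth_rewrite 1 [e]; rw [hu]; group))
    have huR : u ∈ R := hgR _ hqR
    have hvR : (g : G) * u * (g : G)⁻¹ ∈ R := hgR _ huR
    refine ⟨t, u, g, q.2, mul_mem (mul_mem g.2 q.2) (inv_mem g.2), g.2, hto, huo, hne,
      hcm _ hqR _ huR, rfl, ?_⟩
    rcases three_involutions hf hS hn hto huo (hsq _ hvR) hne (hcm _ hqR _ huR) (hcm _ hqR _ hvR)
      (hcm _ huR _ hvR) with e | e | e | e
    · exact absurd (conj_eq_one_iff.1 e) (involution_ne_one huo)
    · exfalso
      obtain ⟨k, hk⟩ := hgo
      have h2 : ∀ l : ℕ, (g : G) ^ (2 * l) * t * ((g : G) ^ (2 * l))⁻¹ = t := by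
        intro l
        induction l with
        | zero => simp
        | succ l ih =>
          calc (g : G) ^ (2 * (l + 1)) * t * ((g : G) ^ (2 * (l + 1)))⁻¹
              = g * (g * ((g : G) ^ (2 * l) * t * ((g : G) ^ (2 * l))⁻¹) * (g : G)⁻¹) * (g : G)⁻¹ := by
                rw [show 2 * (l + 1) = 1 + (1 + 2 * l) by ring, pow_add, pow_add, pow_one]; group
            _ = t := by rw [ih]; exact e
      have h3 : (g : G) * t * (g : G)⁻¹ = t := by
        calc (g : G) * t * (g : G)⁻¹
            = g * ((g : G) ^ (2 * k) * t * ((g : G) ^ (2 * k))⁻¹) * (g : G)⁻¹ := by rw [h2]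
          _ = (g : G) ^ (2 * k + 1) * t * ((g : G) ^ (2 * k + 1))⁻¹ := by
            rw [show 2 * k + 1 = 1 + 2 * k by ring, pow_add, pow_one]; group
          _ = t := by rw [← hk, pow_orderOf_eq_one]; simp
      exact hne h3.symm
    · exact absurd ((MulAut.conj (g : G)).injective (e : (g : G) * u * (g : G)⁻¹ = g * t * (g : G)⁻¹)) hne.symm
    · exact e

end CfsgLib.GW
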