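import Cfsg.Agent.Lib.GW.Rotation
import Cfsg.Agent.Lib.Transfer.Conj

/-!
# Odd subgroups invariant under a four-group

A four-group without non-trivial fixed points on odd subgroups has exactly one invariant Sylow
subgroup in each odd subgroup it normalises.
-/

set_option autoImplicit false

namespace CfsgLib.GW

open Subgroup
open CfsgLib.Signalizer (involution_sq involution_inv involution_ne_one orderOf_eq_two_of orderOf_conj)

universe u

variable {G : Type u} [Group G] [Finite G]

/-- The elements of odd order of a subgroup with a normal `2`-complement. -/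
noncomputable def oddPart (X : Subgroup G) : Subgroup G := (Cfsg.pResidual 2 ↥X).map X.subtype

theorem oddPart_le (X : Subgroup G) : oddPart X ≤ X := map_subtype_le _

theorem mem_oddPart {X : Subgroup G} (hc : Cfsg.HasNormalPComplement 2 X) {x : G} :
    x ∈ oddPart X ↔ x ∈ X ∧ Odd (orderOf x) := by
  constructor
  · rintro ⟨y, hy, rfl⟩
    refine ⟨y.2, ?_⟩
    have := (CfsgLib.Transfer.mem_pResidual_iff_coprime hc).1 hy
    rwa [Nat.coprime_two_right, ← Subgroup.orderOf_coe] at this
  · rintro ⟨h1, h2⟩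
    exact ⟨⟨x, h1⟩, (CfsgLib.Transfer.mem_pResidual_iff_coprime hc).2
      (by rw [Subgroup.orderOf_mk]; exact Nat.coprime_two_right.2 h2), rfl⟩

theorem odd_oddPart {X : Subgroup G} (hc : Cfsg.HasNormalPComplement 2 X) :
    Odd (Nat.card (oddPart X)) := by
  rw [oddPart, card_map_of_injective X.subtype_injective, ← Nat.coprime_two_right]
  exact CfsgLib.Transfer.hasNormalPComplement_iff_coprime.1 hc

theorem mem_normalizer_of_conj {H : Subgroup G} {g : G} (h : ∀ x ∈ H, g * x * g⁻¹ ∈ H) :
    g ∈ normalizer (H : Set G) := by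
  rw [← CfsgLib.Transfer.map_conj_eq_self_iff]
  refine eq_of_le_of_card_ge ?_ (CfsgLib.Transfer.card_map_conj g H).ge
  rintro _ ⟨x, hx, rfl⟩
  exact h x hx

theorem normalizer_le_oddPart {X : Subgroup G} (hc : Cfsg.HasNormalPComplement 2 X) :
    normalizer (X : Set G) ≤ normalizer (oddPart X : Set G) := fun g hg =>
  mem_normalizer_of_conj fun x hx => by
    rw [mem_oddPart hc] at hx ⊢
    exact ⟨(mem_normalizer_iff.1 hg x).1 hx.1, by rw [orderOf_conj]; exact hx.2⟩

namespace Rot

variable {t u g : G}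

theorem map_four (h : Rot t u g) : (four t u).map (MulAut.conj g).toMonoidHom = four t u := by
  refine eq_of_le_of_card_ge ?_ (CfsgLib.Transfer.card_map_conj g _).ge
  rw [map_le_iff_le_comap]
  refine four_le ?_ ?_
  · show g * t * g⁻¹ ∈ four t u
    rw [h.conj1]; exact subset_closure (by simp)
  · show g * u * g⁻¹ ∈ four t u
    rw [h.conj2]; exact mul_mem (subset_closure (by simp)) (subset_closure (by simp))

theorem four_normalizes_map (h : Rot t u g) {P : Subgroup G}
    (hP : four t u ≤ normalizer (P : Set G)) :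
    four t u ≤ normalizer ((P.map (MulAut.conj g).toMonoidHom : Subgroup G) : Set G) := by
  rw [CfsgLib.Transfer.normalizer_map_conj, ← h.map_four]
  exact map_mono hP

end Rot

namespace Setting

variable (σ : Setting G)

theorem odd_of_pGroup {r : ℕ} (hr : r ≠ 2) [Fact r.Prime] {H : Subgroup G} (hH : IsPGroup r H) :
    Odd (Nat.card H) := by
  obtain ⟨k, hk⟩ := IsPGroup.iff_card.1 hH
  rw [hk]
  exact ((Fact.out : r.Prime).odd_of_ne_two hr).pow

include σ in
theorem fix_trivial {K : Subgroup G} (hK : Odd (Nat.card K)) {t u : G} (ht : orderOf t = 2)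
    (hu : orderOf u = 2) (hne : t ≠ u) (hc : Commute t u) {x : G} (hx : x ∈ K)
    (hxT : x ∈ centralizer (four t u : Set G)) : x = 1 :=
  σ.fpf t u x ht hu hne hc (odd_orderOf_of_mem hK hx)
    (mem_centralizer_iff.1 hxT t (subset_closure (by simp))).symm
    (mem_centralizer_iff.1 hxT u (subset_closure (by simp))).symm

include σ in
/-- There is only one invariant Sylow subgroup, and it contains every invariant `r`-subgroup. -/
theorem exists_invSylow {K : Subgroup G} (hK : Odd (Nat.card K)) {t u : G} (ht : orderOf t = 2)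
    (hu : orderOf u = 2) (hne : t ≠ u) (hc : Commute t u)
    (hTK : four t u ≤ normalizer (K : Set G)) (r : ℕ) [Fact r.Prime] :
    ∃ P : Sylow r K, four t u ≤ normalizer ((P : Subgroup K).map K.subtype : Set G) ∧
      ∀ Q : Subgroup G, IsPGroup r Q → Q ≤ K → four t u ≤ normalizer (Q : Set G) →
        Q ≤ (P : Subgroup K).map K.subtype := by
  have : Fact (Nat.Prime 2) := ⟨Nat.prime_two⟩
  have hcop : (Nat.card (four t u)).Coprime (Nat.card K) := by
    obtain ⟨k, hk⟩ := IsPGroup.iff_card.1 (isPGroup_four ht hu hc)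
    rw [hk]
    exact (Nat.coprime_two_left.2 hK).pow_left k
  have hsolv : Group.IsSolvable (four t u) ∨ Group.IsSolvable K :=
    Or.inr (CfsgLib.OddLocal.FTFinal.odd_order_solvable hK)
  obtain ⟨P, hP⟩ := CfsgLib.Core.exists_invariant_sylow hTK hcop hsolv r
  refine ⟨P, hP, fun Q hQ hQK hQT => ?_⟩
  obtain ⟨P₁, hQP, hP₁⟩ := CfsgLib.Core.exists_invariant_sylow_ge hTK hcop hsolv hQK hQ hQT
  obtain ⟨c, hcC, hcP⟩ := CfsgLib.Core.invariant_sylow_conj hTK hcop hsolv P₁ P hP₁ hP
  obtain rfl : c = 1 := Subtype.ext (σ.fix_trivial hK ht hu hne hc c.2 hcC)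
  rw [one_smul] at hcP
  exact hcP ▸ hQP

include σ in
/-- Some non-trivial element of a non-centralised invariant odd subgroup is fixed by a second
involution. -/
theorem exists_fixed_other {K : Subgroup G} (hK : Odd (Nat.card K)) {t u : G} (ht : orderOf t = 2)
    (hu : orderOf u = 2) (hne : t ≠ u) (hc : Commute t u)
    (hTK : four t u ≤ normalizer (K : Set G)) {a : G} (ha : a ∈ K) (hat : ¬ Commute a t) :
    ∃ x ∈ K, x ≠ 1 ∧ (Commute x u ∨ Commute x (t * u)) := by
  by_contra hno
  push Not at hno
  have htN : t ∈ normalizer (K : Set G) := hTK (subset_closure (by simp))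
  have huN : u ∈ normalizer (K : Set G) := hTK (subset_closure (by simp))
  have hinv : ∀ w : G, w * w = 1 → w ∈ normalizer (K : Set G) →
      (∀ x ∈ K, x ≠ 1 → ¬ Commute x w) → ∀ x ∈ K, w * x * w⁻¹ = x⁻¹ := fun w hw hwN hfp =>
    CfsgLib.PGroups.BSW.inverts_of_fpf K hw (fun x hx => (mem_normalizer_iff.1 hwN x).1 hx)
      (fun x hx hfix => by
        by_contra h1
        exact hfp x hx h1 (commute_of_conj_eq hfix).symm)
  have hv2 : t * u * (t * u) = 1 := by
    rw [← pow_two, hc.mul_pow, pow_two, pow_two, involution_sq ht, involution_sq hu, mul_one]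
  have h1 := hinv u (involution_sq hu) huN (fun x hx h1 => (hno x hx h1).1) a ha
  have h2 := hinv (t * u) hv2 (mul_mem htN huN) (fun x hx h1 => (hno x hx h1).2) a ha
  refine hat (commute_of_conj_eq ?_).symm
  rw [show t * u * a * (t * u)⁻¹ = t * (u * a * u⁻¹) * t⁻¹ by group, h1,
    show t * a⁻¹ * t⁻¹ = (t * a * t⁻¹)⁻¹ by group, inv_inj] at h2
  exact h2

end Setting

end CfsgLib.GW
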