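import Cfsg.Agent.Lib.GW.Counting
import Cfsg.Agent.S0508

/-!
# Gorenstein–Walter: the case of four-groups without fixed points of odd order

A simple group with dihedral Sylow 2-subgroups in which no non-trivial element of odd order
centralises two distinct commuting involutions is `PSL₂(q)` for an odd prime power `q`.
-/

set_option autoImplicit false

namespace CfsgLib.GW

open Subgroup Cfsg DihedralGroup
open CfsgLib.TwoGroups CfsgLib.TwoGroups.Dihedral
open CfsgLib.Signalizer (involution_sq involution_ne_one orderOf_eq_two_of orderOf_conj)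

universe u

variable {G : Type u} [Group G] [Finite G]

namespace Setting

variable (σ : Setting G)

include σ in
/-- Centralisers of non-trivial elements of `O(C(t))` lie in `C(t)`. -/
theorem centralizer_U_le [IsSimpleGroup G] {t y : G} (ht : orderOf t = 2) (hy : y ∈ U t)
    (hy1 : y ≠ 1) : centralizer ({y} : Set G) ≤ centralizer ({t} : Set G) := by
  by_contra h
  obtain ⟨r, hr, hr2, hex⟩ := σ.exists_rotInv ht hy hy1 h
  have : Fact r.Prime := ⟨hr⟩
  obtain ⟨R, t', u', g', hne, hrot, h1, h2, h3⟩ := σ.exists_zjInv hr2 hex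
  exact no_zjData σ hr2 ⟨R, t', u', g', hne, hrot, h1, h2, h3⟩

include σ in
theorem normalizer_le_centralizer [IsSimpleGroup G] {t : G} (ht : orderOf t = 2) {Y : Subgroup G}
    (hY : Y ≤ U t) (hY1 : Y ≠ ⊥) : normalizer (Y : Set G) ≤ centralizer ({t} : Set G) := by
  intro g hg
  obtain ⟨y, hy, hy1⟩ := (bot_or_exists_ne_one Y).resolve_left hY1
  set y' := g * y * g⁻¹ with hy'
  have hy'U : y' ∈ U t := hY ((mem_normalizer_iff.1 hg y).1 hy)
  obtain ⟨hyt', hyo'⟩ := (σ.mem_U ht).1 hy'U
  have hy'1 : y' ≠ 1 := fun e => hy1 (conj_eq_one_iff.1 e)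
  have h2 : Commute (g * t * g⁻¹) y' :=
    ((σ.mem_U ht).1 (hY hy)).1.symm.map (MulAut.conj g).toMonoidHom
  have h3 : Commute (g * t * g⁻¹) t :=
    commute_of_mem_centralizer (σ.centralizer_U_le ht hy'U hy'1 (mem_centralizer_of_commute h2))
  by_contra hne
  refine hy'1 (σ.fpf t (g * t * g⁻¹) y' ht (by rw [orderOf_conj]; exact ht) (fun e => ?_) h3.symm
    hyo' hyt' h2.symm)
  exact hne (mem_centralizer_of_commute (commute_of_conj_eq e.symm))

include σ in
theorem oddCore_eq_U {t : G} (ht : orderOf t = 2) :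
    (oddCore (centralizer ({t} : Set G))).map (centralizer ({t} : Set G)).subtype = U t := by
  refine le_antisymm ?_ (map_mono ?_)
  · rintro _ ⟨x, hx, rfl⟩
    refine (σ.mem_U ht).2 ⟨commute_of_mem_centralizer x.2, ?_⟩
    show Odd (orderOf (x : G))
    rw [Subgroup.orderOf_coe]
    exact (Nat.coprime_two_right.1 (CfsgLib.Core.coprime_card_pPrimeCore 2 _)).of_dvd_nat
      (orderOf_dvd_natCard _ hx)
  · exact CfsgLib.Core.le_pPrimeCore
      (CfsgLib.Transfer.hasNormalPComplement_iff_coprime.1 (σ.centralizer_complement ht))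

end Setting

/-- The case of four-groups without fixed points of odd order. -/
theorem psl2_of_free_four_groups [IsSimpleGroup G] (S : Sylow 2 G) (n : ℕ) (hn : 2 ≤ n)
    (hS : Nonempty ((S : Subgroup G) ≃* DihedralGroup n))
    (hfree : ∀ t u x : G, orderOf t = 2 → orderOf u = 2 → t ≠ u → Commute t u → Odd (orderOf x) →
      Commute x t → Commute x u → x = 1) :
    ∃ (F : Type) (_ : Field F) (_ : Fintype F), Odd (Fintype.card F) ∧
      Nonempty (G ≃* Matrix.ProjectiveSpecialLinearGroup (Fin 2) F) := by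
  classical
  have : Fact (Nat.Prime 2) := ⟨Nat.prime_two⟩
  obtain ⟨eS⟩ := hS
  obtain ⟨m, f, hm, hcard, hf, hfS⟩ := exists_model hn eS
  have h4 : 4 ∣ Nat.card G := by
    refine (Dvd.intro (2 ^ (m - 1)) ?_ : 4 ∣ Nat.card (S : Subgroup G)).trans (Subgroup.card_subgroup_dvd_card _)
    rw [hcard, show (4 : ℕ) = 2 ^ 2 by norm_num, ← pow_add]; congr 1; omega
  have hno : ∀ H : Subgroup G, H.index ≠ 2 := by
    intro H hH
    have : H.Normal := Subgroup.normal_of_index_eq_two hH
    rcases this.eq_bot_or_eq_top with e | e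
    · rw [e, index_bot] at hH
      rw [hH] at h4
      omega
    · rw [e, index_top] at hH; omega
  let σ : Setting G :=
    { S := S, n := m, f := f, inj := hf, range := hfS, pos := hm,
      one_class := all_conj_of_no_index_two hf hfS hm hno, fpf := hfree }
  set t := f (r (half m)) with ht
  have hto : orderOf t = 2 := orderOf_half hf hm
  have htS : t ∈ (S : Subgroup G) := hfS ▸ ⟨_, rfl⟩
  have htZ : ∀ s ∈ (S : Subgroup G), s * t = t * s := by
    rw [← hfS]
    rintro _ ⟨a, rfl⟩
    rw [ht, ← map_mul, ← map_mul]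
    rcases a with i | i
    · rw [r_mul_r, r_mul_r, add_comm]
    · rw [r_mul_sr, sr_mul_r, sub_eq_add_neg, neg_half hm]
  have hsr : ∀ i, ∀ y ∈ U t, f (sr i) * y * (f (sr i))⁻¹ = y⁻¹ := by
    intro i y hy
    refine σ.inverts_U hto (by rw [orderOf_injective f hf, orderOf_sr]) (fun e => ?_) ?_ hy
    · cases hf e
    · exact (htZ _ (hfS ▸ ⟨_, rfl⟩)).symm
  have hrot : ∀ i, ∀ y ∈ U t, f (r i) * y * (f (r i))⁻¹ = y := by
    intro i y hy
    rw [show (r i : DihedralGroup (2 ^ m)) = sr 0 * sr i by rw [sr_mul_sr, sub_zero], map_mul,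
      show f (sr 0) * f (sr i) * y * (f (sr 0) * f (sr i))⁻¹ =
        f (sr 0) * (f (sr i) * y * (f (sr i))⁻¹) * (f (sr 0))⁻¹ by group,
      hsr i y hy, hsr 0 y⁻¹ (inv_mem hy), inv_inv]
  refine Cfsg.Agent.S0508.result S n hn ⟨eS⟩ t hto htS htZ (U t) (σ.oddCore_eq_U hto).symm
    (fun hU => ?_) ?_ (fun Y hY hY1 => σ.normalizer_le_centralizer hto hY hY1)
  · obtain ⟨y, hy, hy1⟩ := (bot_or_exists_ne_one (U t)).resolve_left hU
    have hyo := ((σ.mem_U hto).1 hy).2
    have hsrn : ∀ i, f (sr i) ∉ centralizer (U t : Set G) := fun i h => hy1 (eq_one_of_inv_self hyo (by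
      rw [← hsr i y hy, conj_eq_of_commute (mem_centralizer_iff.1 h y hy : Commute y (f (sr i))).symm]))
    have hK : (S : Subgroup G) ⊓ centralizer (U t : Set G) = zpowers (f (r 1)) := by
      refine le_antisymm ?_ ?_
      · rintro x ⟨hx, hxc⟩
        rw [SetLike.mem_coe, ← hfS] at hx
        obtain ⟨a, rfl⟩ := hx
        rcases a with i | i
        · obtain ⟨c, rfl⟩ := ZMod.intCast_surjective i
          exact ⟨c, by show f (r 1) ^ c = _; rw [← map_zpow, r_one_zpow]⟩
        · exact absurd hxc (hsrn i)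
      · rw [zpowers_le]
        refine ⟨hfS ▸ ⟨_, rfl⟩, mem_centralizer_iff.2 fun z hz => ?_⟩
        exact (commute_of_conj_eq (hrot 1 z hz)).eq.symm
    rw [hK]
    refine ⟨inferInstance, ?_⟩
    have hle : zpowers (f (r 1)) ≤ (S : Subgroup G) := zpowers_le.2 (hfS ▸ ⟨_, rfl⟩)
    have h1 := card_mul_index ((zpowers (f (r 1))).subgroupOf (S : Subgroup G))
    rw [Nat.card_congr (subgroupOfEquivOfLe hle).toEquiv, Nat.card_zpowers, orderOf_injective f hf,
      DihedralGroup.orderOf_r_one, hcard, pow_succ] at h1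
    exact Nat.eq_of_mul_eq_mul_left (pow_pos two_pos m) h1
  · intro s hs hsC y hy
    rw [← hfS] at hs
    obtain ⟨a, rfl⟩ := hs
    rcases a with i | i
    · exact absurd (mem_centralizer_iff.2 fun z hz => (commute_of_conj_eq (hrot i z hz)).eq.symm) hsC
    · exact hsr i y hy

end CfsgLib.GW
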