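import Cfsg.Agent.Lib.GW.OddPart

/-!
# A non-trivial odd subgroup invariant under a rotated four-group

If the centraliser of an element of prime order of `O(C(t))` is not inside `C(t)` then some
non-trivial `r`-subgroup is normalised by a four-group and by a rotation of it.
-/

set_option autoImplicit false

namespace CfsgLib.GW

open Subgroup
open CfsgLib.Signalizer (involution_sq involution_inv involution_ne_one orderOf_eq_two_of orderOf_conj)

universe u

variable {G : Type u} [Group G] [Finite G]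

/-- A non-trivial `r`-subgroup with a rotated four-group normalising it. -/
structure RotInv (r : ℕ) (E : Subgroup G) (t u g : G) : Prop where
  ne : E ≠ ⊥
  isP : IsPGroup r E
  rot : Rot t u g
  ht : t ∈ normalizer (E : Set G)
  hu : u ∈ normalizer (E : Set G)
  hg : g ∈ normalizer (E : Set G)

namespace Setting

variable (σ : Setting G)

/-- The conjugate of an element of odd order of `C(t)` by a rotation lies in `U u`. -/
theorem conj_mem_U (σ : Setting G) {t u g x : G} (h : Rot t u g) (hx : x ∈ U t) :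
    g * x * g⁻¹ ∈ U u := by
  rw [σ.mem_U h.ht] at hx
  rw [σ.mem_U h.hu, orderOf_conj]
  refine ⟨?_, hx.2⟩
  rw [← h.conj1]
  exact hx.1.map (MulAut.conj g).toMonoidHom

include σ in
/-- The four-group normalises the centraliser of an element of `U t`. -/
theorem four_le_normalizer_centralizer {t u : G} (ht : orderOf t = 2) (hu : orderOf u = 2)
    (hne : t ≠ u) (hc : Commute t u) {y : G} (hy : y ∈ U t) :
    four t u ≤ normalizer (centralizer ({y} : Set G) : Set G) := by
  refine four_le (le_normalizer (mem_centralizer_of_commute ((σ.mem_U ht).1 hy).1.symm)) ?_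
  refine mem_normalizer_of_conj fun x hx => mem_centralizer_of_commute ?_
  have h1 := (commute_of_mem_centralizer hx).map (MulAut.conj u).toMonoidHom
  have h2 : (MulAut.conj u).toMonoidHom y = y⁻¹ := σ.inverts_U ht hu hne hc hy
  rw [h2] at h1
  simpa using h1.inv_right

include σ in
/-- If all odd order elements of `C(y)` centralise `t` then so does `C(y)`. -/
theorem centralizer_le_of_oddPart {t y : G} (ht : orderOf t = 2) (hy : y ∈ U t) (hy1 : y ≠ 1)
    (h : ∀ a ∈ oddPart (centralizer ({y} : Set G)), Commute a t) :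
    centralizer ({y} : Set G) ≤ centralizer ({t} : Set G) := by
  classical
  have : Fact (Nat.Prime 2) := ⟨Nat.prime_two⟩
  obtain ⟨hyt, hyo⟩ := (σ.mem_U ht).1 hy
  set Y := centralizer ({y} : Set G) with hY
  have hcY := σ.centralizer_complement' hyo hy1
  have htY : t ∈ Y := mem_centralizer_of_commute hyt.symm
  have hz : IsPGroup 2 (zpowers (⟨t, htY⟩ : Y)) :=
    IsPGroup.of_card (n := 1) (by rw [Nat.card_zpowers, pow_one, Subgroup.orderOf_mk]; exact ht)
  obtain ⟨Q, hQ⟩ := hz.exists_le_sylow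
  have htQ : (⟨t, htY⟩ : Y) ∈ (Q : Subgroup Y) := hQ (mem_zpowers _)
  -- `t` is central in the Sylow subgroup
  obtain ⟨z, hzQ, hzo, hzc⟩ : ∃ z ∈ (Q : Subgroup Y), orderOf z = 2 ∧
      ∀ q ∈ (Q : Subgroup Y), q * z = z * q := by
    haveI : Nontrivial (Q : Subgroup Y) := ⟨⟨⟨_, htQ⟩, 1, fun e =>
      involution_ne_one ht (congrArg (fun w : (Q : Subgroup Y) => ((w : Y) : G)) e)⟩⟩
    haveI := Q.2.center_nontrivial
    obtain ⟨k, hk, hcard⟩ := (Q.2.to_subgroup (center (Q : Subgroup Y))).nontrivial_iff_card.1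
      inferInstance
    obtain ⟨z, hz⟩ := exists_prime_orderOf_dvd_card' (G := center (Q : Subgroup Y)) 2
      (hcard ▸ dvd_pow_self 2 hk.ne')
    refine ⟨z, (z : (Q : Subgroup Y)).2, by rw [Subgroup.orderOf_coe, Subgroup.orderOf_coe, hz],
      fun q hq => ?_⟩
    exact congrArg Subtype.val (mem_center_iff.1 z.2 ⟨q, hq⟩)
  have hzt : (z : G) = t := by
    by_contra hne
    exact hy1 (σ.fpf t z y ht (by rw [Subgroup.orderOf_coe]; exact hzo) (Ne.symm hne)
      (congrArg Subtype.val (hzc ⟨t, htY⟩ htQ)) hyo hyt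
      (commute_of_mem_centralizer z.2).symm)
  obtain ⟨N, hN, hcop, hP⟩ := CfsgLib.Transfer.hasNormalPComplement_iff_exists.1 hcY
  have htop : (Q : Subgroup Y) ⊔ N = ⊤ := by
    apply index_eq_one.1
    have h1 : ((Q : Subgroup Y) ⊔ N).index ∣ (Q : Subgroup Y).index := index_dvd_of_le le_sup_left
    have h2 : ((Q : Subgroup Y) ⊔ N).index ∣ N.index := index_dvd_of_le le_sup_right
    have h3 : (Q : Subgroup Y).index.Coprime N.index := by
      obtain ⟨k, hk⟩ := IsPGroup.iff_card.1 hP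
      rw [← Subgroup.index_eq_card] at hk
      rw [hk]
      exact ((Nat.Prime.coprime_iff_not_dvd Nat.prime_two).2 Q.not_dvd_index).symm.pow_right k
    exact Nat.eq_one_of_dvd_coprimes h3 h1 h2
  intro c hcm
  have hc : (⟨c, hcm⟩ : Y) ∈ (Q : Subgroup Y) ⊔ N := htop ▸ mem_top _
  obtain ⟨q, hq, a, ha, e⟩ := mem_sup_of_normal_right.1 hc
  have e' : c = (q : G) * a := (congrArg Subtype.val e).symm
  rw [e']
  refine mul_mem (mem_centralizer_of_commute ?_) (mem_centralizer_of_commute (h a ?_))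
  · rw [← hzt]; exact congrArg Subtype.val (hzc q hq)
  · refine (mem_oddPart hcY).2 ⟨a.2, ?_⟩
    rw [Subgroup.orderOf_coe]
    exact (Nat.coprime_two_right.1 hcop).of_dvd_nat (orderOf_dvd_natCard N ha)

include σ in
/-- Step 1: an invariant subgroup normalised by a rotated four-group. -/
theorem exists_rotInv {t y : G} (ht : orderOf t = 2) (hy : y ∈ U t) (hy1 : y ≠ 1)
    (hyC : ¬ centralizer ({y} : Set G) ≤ centralizer ({t} : Set G)) :
    ∃ r : ℕ, r.Prime ∧ r ≠ 2 ∧ ∃ E t' u' g', RotInv r (E : Subgroup G) t' u' g' := by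
  classical
  obtain ⟨hyt, hyo⟩ := (σ.mem_U ht).1 hy
  set A := oddPart (centralizer ({y} : Set G)) with hA
  have hcY := σ.centralizer_complement' hyo hy1
  have hAo : Odd (Nat.card A) := odd_oddPart hcY
  obtain ⟨u, x, hu, hne, hc, hxA, hx1, hxu⟩ :
      ∃ u x, orderOf u = 2 ∧ t ≠ u ∧ Commute t u ∧ x ∈ A ∧ x ≠ 1 ∧ Commute x u := by
    obtain ⟨u, hu, hne, hc⟩ := σ.exists_partner ht
    have hTA : four t u ≤ normalizer (A : Set G) :=
      (σ.four_le_normalizer_centralizer ht hu hne hc hy).trans (normalizer_le_oddPart hcY)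
    obtain ⟨a, ha, hat⟩ : ∃ a ∈ A, ¬ Commute a t := by
      by_contra hno
      push Not at hno
      exact hyC (σ.centralizer_le_of_oddPart ht hy hy1 hno)
    obtain ⟨x, hx, hx1, hxu | hxu⟩ := σ.exists_fixed_other hAo ht hu hne hc hTA ha hat
    · exact ⟨u, x, hu, hne, hc, hx, hx1, hxu⟩
    · obtain ⟨g, hg⟩ := σ.exists_rot_of_pair ht hu hne hc
      exact ⟨t * u, x, hg.prod_order, fun e => involution_ne_one hu (mul_eq_left.1 e.symm),
        (Commute.refl t).mul_right hc, hx, hx1, hxu⟩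
  have hTA : four t u ≤ normalizer (A : Set G) :=
    (σ.four_le_normalizer_centralizer ht hu hne hc hy).trans (normalizer_le_oddPart hcY)
  obtain ⟨r, hr, hrd⟩ := Nat.exists_prime_and_dvd (fun e => hx1 (orderOf_eq_one_iff.1 e))
  have : Fact r.Prime := ⟨hr⟩
  have hr2 : r ≠ 2 := by
    rintro rfl
    exact (Nat.not_even_iff_odd.2 (odd_orderOf_of_mem hAo hxA)) (even_iff_two_dvd.2 hrd)
  refine ⟨r, hr, hr2, ?_⟩
  -- an element `x₀` of order `r` fixed by `u`
  set x₀ : G := x ^ (orderOf x / r) with hx₀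
  have hx₀o : orderOf x₀ = r := orderOf_pow_orderOf_div (orderOf_pos x).ne' hrd
  have hx₀A : x₀ ∈ A := pow_mem hxA _
  have hx₀u : Commute x₀ u := hxu.pow_left _
  have hx₀U : x₀ ∈ U u := (σ.mem_U hu).2 ⟨hx₀u, odd_orderOf_of_mem hAo hx₀A⟩
  -- the invariant Sylow subgroup of `A`
  obtain ⟨P₀, hP₀, hP₀max⟩ := σ.exists_invSylow hAo ht hu hne hc hTA r
  set R := (P₀ : Subgroup A).map A.subtype with hR
  have hRp : IsPGroup r R := P₀.2.map _
  obtain ⟨g, hg⟩ := σ.exists_rot_of_pair ht hu hne hc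
  have hmem : ∀ z : G, z ∈ A → orderOf z = r →
      (t * z * t⁻¹ = z ∨ t * z * t⁻¹ = z⁻¹) → (u * z * u⁻¹ = z ∨ u * z * u⁻¹ = z⁻¹) → z ∈ R := by
    intro z hz hzo h1 h2
    refine hP₀max (zpowers z) (IsPGroup.of_card (n := 1) (by rw [Nat.card_zpowers, hzo, pow_one]))
      (zpowers_le.2 hz) ?_ (mem_zpowers z)
    have key : ∀ w : G, (w * z * w⁻¹ = z ∨ w * z * w⁻¹ = z⁻¹) →
        w ∈ normalizer (zpowers z : Set G) := by
      intro w hw
      refine mem_normalizer_of_conj fun a ha => ?_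
      obtain ⟨k, rfl⟩ := ha
      rw [← conj_zpow]
      refine zpow_mem ?_ k
      rcases hw with e | e <;> rw [e]
      · exact mem_zpowers z
      · exact inv_mem (mem_zpowers z)
    exact four_le (key t h1) (key u h2)
  have hx₀R : x₀ ∈ R := hmem x₀ hx₀A hx₀o
    (Or.inr (σ.inverts_U hu ht hne.symm hc.symm hx₀U)) (Or.inl (conj_eq_of_commute hx₀u.symm))
  -- the element of `U t` carried to `x₀`
  have hz₀U : g⁻¹ * x₀ * g ∈ U t := by
    refine (σ.mem_U ht).2 ⟨?_, ?_⟩
    · have h1 := hx₀u.map (MulAut.conj g⁻¹).toMonoidHom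
      have h2 : (MulAut.conj g⁻¹).toMonoidHom u = t := by
        show g⁻¹ * u * g⁻¹⁻¹ = t
        rw [← hg.conj1]; group
      rw [h2] at h1
      simpa using h1
    · have := orderOf_conj g⁻¹ x₀
      rw [inv_inv] at this
      rw [this, hx₀o]
      exact hr.odd_of_ne_two hr2
  have hz₀R : g⁻¹ * x₀ * g ∈ R := by
    refine hmem _ ?_ ?_ (Or.inl (conj_eq_of_commute ((σ.mem_U ht).1 hz₀U).1.symm))
      (Or.inr (σ.inverts_U ht hu hne hc hz₀U))
    · exact (mem_oddPart hcY).2 ⟨mem_centralizer_of_commute (σ.comm_U ht hz₀U hy),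
        ((σ.mem_U ht).1 hz₀U).2⟩
    · have := orderOf_conj g⁻¹ x₀
      rw [inv_inv] at this
      rw [this, hx₀o]
  -- maximal invariant `r`-subgroups
  let p : Subgroup G → Prop := fun P => IsPGroup r P ∧ four t u ≤ normalizer (P : Set G)
  obtain ⟨P, hRP, hPmax⟩ := Finite.exists_le_maximal (p := p) ⟨hRp, hP₀⟩
  set P' := P.map (MulAut.conj g).toMonoidHom with hP'
  have hP'p : p P' := ⟨hPmax.1.1.map _, hg.four_normalizes_map hPmax.1.2⟩
  have hP'max : Maximal p P' := by
    refine ⟨hP'p, fun Q hQ hle => ?_⟩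
    obtain ⟨Q', hQQ', hQ'⟩ := Finite.exists_le_maximal (p := p) hQ
    have h1 := hPmax.2 (y := Q'.map (MulAut.conj g⁻¹).toMonoidHom) ⟨hQ'.1.1.map _, ?_⟩ (fun w hw =>
      ⟨g * w * g⁻¹, hQQ' (hle (CfsgLib.Transfer.conj_mem_map_conj hw)), by simp [mul_assoc]⟩)
    · refine hQQ'.trans fun q hq => ?_
      have h2 := h1 (CfsgLib.Transfer.conj_mem_map_conj hq : g⁻¹ * q * g⁻¹⁻¹ ∈ _)
      rw [inv_inv] at h2
      exact ⟨g⁻¹ * q * g, h2, by simp [mul_assoc]⟩
    · have h2 := map_mono (f := (MulAut.conj g⁻¹).toMonoidHom) hQ'.1.2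
      rw [← hg.map_four, map_map] at h2
      rw [CfsgLib.Transfer.normalizer_map_conj]
      refine le_trans (le_of_eq ?_) h2
      rw [show (MulAut.conj g⁻¹).toMonoidHom.comp (MulAut.conj g).toMonoidHom = MonoidHom.id G by
        ext w; simp [mul_assoc], Subgroup.map_id]
  have hxP' : x₀ ∈ P' := ⟨g⁻¹ * x₀ * g, hRP hz₀R, by simp [mul_assoc]⟩
  have hint : P ⊓ P' ≠ ⊥ := by
    intro e
    have h1 : x₀ ∈ P ⊓ P' := ⟨hRP hx₀R, hxP'⟩
    rw [e, mem_bot] at h1
    rw [h1, orderOf_one] at hx₀o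
    exact hr.ne_one hx₀o.symm
  by_cases hPP : P' = P
  · refine ⟨P, t, u, g, fun e => hint (by rw [e, bot_inf_eq]), hPmax.1.1, hg,
      hPmax.1.2 (subset_closure (by simp)), hPmax.1.2 (subset_closure (by simp)), ?_⟩
    exact CfsgLib.Transfer.map_conj_eq_self_iff.1 hPP
  -- a maximal intersection of two maximal invariant subgroups
  let s : Set (Subgroup G × Subgroup G) :=
    {q | Maximal p q.1 ∧ Maximal p q.2 ∧ q.1 ≠ q.2 ∧ q.1 ⊓ q.2 ≠ ⊥}
  obtain ⟨⟨P₁, P₂⟩, ⟨h1, h2, h12, hI⟩, hmax⟩ := Set.exists_max_image s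
    (fun q => Nat.card (q.1 ⊓ q.2 : Subgroup G)) (Set.toFinite s)
    ⟨(P, P'), hPmax, hP'max, Ne.symm hPP, hint⟩
  set E := P₁ ⊓ P₂ with hE
  have hEp : IsPGroup r E := h1.1.1.to_le inf_le_left
  have hTE : four t u ≤ normalizer (E : Set G) :=
    (le_inf h1.1.2 h2.1.2).trans CfsgLib.Transfer.normalizer_le_normalizer_inf
  set X := normalizer (E : Set G) with hX
  have hX' : ¬ Cfsg.HasNormalPComplement 2 X := by
    intro hcX
    have hOo := odd_oddPart hcX
    have hTO : four t u ≤ normalizer (oddPart X : Set G) :=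
      (hTE.trans le_normalizer).trans (normalizer_le_oddPart hcX)
    obtain ⟨Q, hQ, hQmax⟩ := σ.exists_invSylow hOo ht hu hne hc hTO r
    have hgrow : ∀ P : Subgroup G, Maximal p P → E < P →
        E < P ⊓ X ∧ P ⊓ X ≤ (Q : Subgroup (oddPart X)).map (oddPart X).subtype := by
      intro P hP hlt
      refine ⟨CfsgLib.Transfer.lt_inf_normalizer hP.1.1 hlt,
        hQmax _ (hP.1.1.to_le inf_le_left) (fun z hz => (mem_oddPart hcX).2 ⟨hz.2, ?_⟩) ?_⟩
      · exact odd_orderOf_of_mem (odd_of_pGroup hr2 (hP.1.1.to_le inf_le_left)) hz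
      · exact (le_inf hP.1.2 (hTE.trans le_normalizer)).trans
          CfsgLib.Transfer.normalizer_le_normalizer_inf
    have hlt1 : E < P₁ := lt_of_le_of_ne inf_le_left fun e =>
      h12 (le_antisymm (e ▸ inf_le_right) (h1.2 h2.1 (e ▸ inf_le_right)))
    have hlt2 : E < P₂ := lt_of_le_of_ne inf_le_right fun e =>
      h12 (le_antisymm (h2.2 h1.1 (e ▸ inf_le_left)) (e ▸ inf_le_left))
    obtain ⟨P₃, hQP₃, hP₃⟩ := Finite.exists_le_maximal (p := p) ⟨Q.2.map (oddPart X).subtype, hQ⟩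
    have key : ∀ P : Subgroup G, Maximal p P → E < P → P₃ = P := by
      intro P hP hlt
      by_contra hne
      obtain ⟨hg1, hg2⟩ := hgrow P hP hlt
      have hlt' : E < P₃ ⊓ P := lt_of_lt_of_le hg1 (le_inf (hg2.trans hQP₃) inf_le_left)
      have := hmax (P₃, P) ⟨hP₃, hP, hne, fun e => not_lt_bot (e ▸ hlt')⟩
      exact absurd this (not_le.2 (CfsgLib.Transfer.card_lt_of_lt hlt'))
    exact h12 ((key P₁ h1 hlt1).symm.trans (key P₂ h2 hlt2))
  obtain ⟨t', u', g', ht', hu', hg', hR'⟩ := σ.exists_rot' X hX'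
  exact ⟨E, t', u', g', hI, hEp, hR', ht', hu', hg'⟩

end Setting

end CfsgLib.GW
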