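import Cfsg.Agent.Lib.GW.Invariant
import Cfsg.Agent.Lib.GW.ZJFactor
import Cfsg.Agent.Lib.PGroups.Basic

/-!
# An invariant `Z(J(R))` of a Sylow subgroup

If some non-trivial `r`-subgroup is normalised by a rotated four-group then so is `Z(J(R))` for
a Sylow `r`-subgroup `R` of the whole group.
-/

set_option autoImplicit false

namespace CfsgLib.GW

open Subgroup Cfsg
open CfsgLib.Signalizer (involution_sq involution_inv involution_ne_one orderOf_eq_two_of orderOf_conj)

universe u

variable {G : Type u} [Group G] [Finite G]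

namespace Setting

variable (σ : Setting G)

include σ in
/-- A normal subgroup of even order contains every rotated four-group. -/
theorem four_mem_of_even {X : Subgroup G} (N : Subgroup X) [N.Normal] (hN : ¬ Odd (Nat.card N))
    {t u g : G} (h : Rot t u g) (ht : t ∈ X) (hu : u ∈ X) (hg : g ∈ X) :
    (⟨t, ht⟩ : X) ∈ N ∧ (⟨u, hu⟩ : X) ∈ N := by
  classical
  have : Fact (Nat.Prime 2) := ⟨Nat.prime_two⟩
  have hT : IsPGroup 2 ((four t u).subgroupOf X) :=
    (isPGroup_four h.ht h.hu h.comm).comap_of_injective _ X.subtype_injective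
  obtain ⟨S, hS⟩ := hT.exists_le_sylow
  have htS : (⟨t, ht⟩ : X) ∈ (S : Subgroup X) := hS (subset_closure (by simp) : t ∈ four t u)
  have huS : (⟨u, hu⟩ : X) ∈ (S : Subgroup X) := hS (subset_closure (by simp) : u ∈ four t u)
  obtain ⟨a, haN, hao⟩ : ∃ a ∈ N, orderOf a = 2 := by
    obtain ⟨a, ha⟩ := exists_prime_orderOf_dvd_card' (G := N) 2
      (even_iff_two_dvd.1 (Nat.not_odd_iff_even.1 hN))
    exact ⟨a, a.2, by rw [Subgroup.orderOf_coe, ha]⟩
  obtain ⟨c, hc⟩ := CfsgLib.TwoGroups.exists_conj_le_sylow S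
    (IsPGroup.of_card (n := 1) (by rw [Nat.card_zpowers, hao, pow_one]) : IsPGroup 2 (zpowers a))
  have hbN : c * a * c⁻¹ ∈ N := Subgroup.Normal.conj_mem inferInstance a haN c
  have hbS : c * a * c⁻¹ ∈ (S : Subgroup X) :=
    hc (CfsgLib.TwoGroups.conj_mem_map_conj (mem_zpowers a))
  haveI : ((N.subgroupOf (S : Subgroup X))).Normal := inferInstance
  set M := N.subgroupOf (S : Subgroup X) with hM
  haveI : Nontrivial M := ⟨⟨⟨⟨_, hbS⟩, hbN⟩, 1, fun e => by
    have h1 : c * a * c⁻¹ = 1 := congrArg (fun w : M => ((w : (S : Subgroup X)) : X)) e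
    rw [conj_eq_one_iff] at h1
    rw [h1, orderOf_one] at hao
    exact absurd hao (by omega)⟩⟩
  have hmc := CfsgLib.PGroups.inf_center_ne_bot (S.2 : IsPGroup 2 (S : Subgroup X)) (N := M)
    ((nontrivial_iff_ne_bot M).1 inferInstance)
  obtain ⟨z, hz⟩ := exists_prime_orderOf_dvd_card' (G := ↥(M ⊓ center (S : Subgroup X))) 2 (by
    obtain ⟨k, hk, hcard⟩ :=
      ((S.2 : IsPGroup 2 (S : Subgroup X)).to_subgroup (M ⊓ center (S : Subgroup X))).nontrivial_iff_card.1
        ((nontrivial_iff_ne_bot _).2 hmc)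
    exact hcard ▸ dvd_pow_self 2 hk.ne')
  set w : X := ((z : (S : Subgroup X)) : X) with hw
  have hwN : w ∈ N := z.2.1
  have hwo : orderOf (w : G) = 2 := by
    rw [Subgroup.orderOf_coe, hw, Subgroup.orderOf_coe, Subgroup.orderOf_coe, hz]
  have hwc : ∀ s ∈ (S : Subgroup X), s * w = w * s := fun s hs =>
    congrArg Subtype.val (mem_center_iff.1 z.2.2 ⟨s, hs⟩)
  have key : ∀ {a b : G} (ha : a ∈ X), g * a * g⁻¹ = b → (⟨a, ha⟩ : X) ∈ N →
      ∀ hb : b ∈ X, (⟨b, hb⟩ : X) ∈ N := by
    intro a b ha e hmem hb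
    have h1 := Subgroup.Normal.conj_mem ‹N.Normal› _ hmem (⟨g, hg⟩ : X)
    rwa [show (⟨g, hg⟩ : X) * ⟨a, ha⟩ * ⟨g, hg⟩⁻¹ = ⟨b, hb⟩ from Subtype.ext e] at h1
  have hgtu : g * (t * u) * g⁻¹ = t := by
    rw [show g * (t * u) * g⁻¹ = g * t * g⁻¹ * (g * u * g⁻¹) by group, h.conj1, h.conj2,
      ← mul_assoc, ← h.comm.eq, mul_assoc, involution_sq h.hu, mul_one]
  rcases three_involutions σ.inj σ.range σ.pos h.ht h.hu (involution_sq hwo) h.ne h.comm
    (congrArg Subtype.val (hwc _ htS)) (congrArg Subtype.val (hwc _ huS)) with e | e | e | e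
  · exact absurd e (involution_ne_one hwo)
  · have h1 : (⟨t, ht⟩ : X) ∈ N := by convert hwN; exact e.symm
    exact ⟨h1, key ht h.conj1 h1 hu⟩
  · have h1 : (⟨u, hu⟩ : X) ∈ N := by convert hwN; exact e.symm
    have h2 := key hu h.conj2 h1 (mul_mem ht hu)
    exact ⟨key (mul_mem ht hu) hgtu h2 ht, h1⟩
  · have h2 : (⟨t * u, mul_mem ht hu⟩ : X) ∈ N := by convert hwN; exact e.symm
    have h3 := key (mul_mem ht hu) hgtu h2 ht
    exact ⟨h3, key ht h.conj1 h3 hu⟩

include σ in
/-- Step 2: an invariant `Z(J(R))`. -/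
theorem exists_zjInv {r : ℕ} [Fact r.Prime] (hr : r ≠ 2)
    (hex : ∃ E t u g, RotInv r (E : Subgroup G) t u g) :
    ∃ (R : Sylow r G) (t u g : G), (R : Subgroup G) ≠ ⊥ ∧ Rot t u g ∧
      t ∈ normalizer (centerThompsonAOf (R : Subgroup G) : Set G) ∧
      u ∈ normalizer (centerThompsonAOf (R : Subgroup G) : Set G) ∧
      g ∈ normalizer (centerThompsonAOf (R : Subgroup G) : Set G) := by
  classical
  have hrp : r.Prime := Fact.out
  let ν : Subgroup G → ℕ := fun E => r ^ (Nat.card (normalizer (E : Set G))).factorization r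
  let s : Set (Subgroup G) := {E | ∃ t u g, RotInv r E t u g}
  obtain ⟨E, ⟨t, u, g, hE⟩, hmax⟩ := Set.exists_max_image s ν (Set.toFinite s)
    (let ⟨E, h⟩ := hex; ⟨E, h⟩)
  set X := normalizer (E : Set G) with hX
  have hTX : four t u ≤ X := four_le hE.ht hE.hu
  have hEX : E ≤ X := le_normalizer
  set E' := E.subgroupOf X with hE'
  have hE'p : IsPGroup r E' := hE.isP.comap_of_injective _ X.subtype_injective
  haveI hE'n : E'.Normal := normal_in_normalizer
  set N := pPrimeCore r X with hN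
  haveI : N.Normal := CfsgLib.Core.normal_pPrimeCore r X
  set π := QuotientGroup.mk' N with hπ
  have hsurj : Function.Surjective π := QuotientGroup.mk'_surjective N
  have hdisj : ∀ {x : X}, x ∈ E' → x ∈ N → x = 1 := fun h1 h2 =>
    disjoint_def.1 (CfsgLib.PLocal.disjoint_pPrime hE'p) h1 h2
  -- normal subgroups centralising the image of `E` have odd order
  have hodd : ∀ M : Subgroup X, M.Normal → (∀ x ∈ M, ∀ e ∈ E', x * e * x⁻¹ * e⁻¹ ∈ N) →
      Odd (Nat.card M) := by
    intro M hM hcen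
    by_contra hMo
    obtain ⟨htM, huM⟩ := σ.four_mem_of_even M hMo hE.rot hE.ht hE.hu hE.hg
    obtain ⟨e, he, he1⟩ := (bot_or_exists_ne_one E).resolve_left hE.ne
    have he' : (⟨e, hEX he⟩ : X) ∈ E' := he
    have hfix : ∀ {w : G} (hw : w ∈ X), (⟨w, hw⟩ : X) ∈ M → Commute e w := fun {w} hw hwM => by
      have h1 := hcen _ hwM _ he'
      have h2 := hdisj (mul_mem (Subgroup.Normal.conj_mem hE'n _ he' _) (inv_mem he')) h1
      have h3 : w * e * w⁻¹ * e⁻¹ = 1 := congrArg Subtype.val h2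
      exact (commute_of_conj_eq (mul_inv_eq_one.1 h3)).symm
    exact he1 (σ.fpf t u e hE.rot.ht hE.rot.hu hE.rot.ne hE.rot.comm
      (odd_orderOf_of_mem (odd_of_pGroup hr hE.isP) he) (hfix hE.ht htM) (hfix hE.hu huM))
  have hNo : Odd (Nat.card N) := hodd N inferInstance fun x hx e _ => by
    rw [show x * e * x⁻¹ * e⁻¹ = x * (e * x⁻¹ * e⁻¹) by group]
    exact mul_mem hx (Subgroup.Normal.conj_mem inferInstance _ (inv_mem hx) _)
  have hsolv : Group.IsSolvable (centralizer (pCore r (X ⧸ N) : Set (X ⧸ N))) := by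
    refine CfsgLib.OddLocal.FTFinal.odd_order_solvable ?_
    set C := centralizer (pCore r (X ⧸ N) : Set (X ⧸ N)) with hC
    haveI : (pCore r (X ⧸ N)).Normal := CfsgLib.Core.normal_pCore r _
    have h1 : Odd (Nat.card (C.comap π)) := hodd _ inferInstance fun x hx e he => by
      have hπe : π e ∈ pCore r (X ⧸ N) := by
        haveI := hE'n.map π hsurj
        exact CfsgLib.Core.le_pCore (hE'p.map π) ⟨e, he, rfl⟩
      have h2 : π e * π x = π x * π e := mem_centralizer_iff.1 hx _ hπe
      rw [← QuotientGroup.eq_one_iff]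
      show π (x * e * x⁻¹ * e⁻¹) = 1
      rw [map_mul, map_mul, map_mul, map_inv, map_inv, ← h2]
      group
    have h2 := (C.comap π).card_map_dvd π
    rw [map_comap_eq_self_of_surjective hsurj] at h2
    exact h1.of_dvd_nat h2
  obtain ⟨RX⟩ : Nonempty (Sylow r X) := inferInstance
  have hfac := zj_factor hr (CfsgLib.PLocal.SLTwo.noQd_subgroup (σ.noQd hr) X) hsolv RX
  set Z := centerThompsonAOf (RX : Subgroup X) with hZ
  have hZp : IsPGroup r Z := RX.2.to_le (CfsgLib.PLocal.centerThompsonA_le _)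
  set K := N ⊔ Z with hK
  haveI hKn : K.Normal := by
    rw [← normalizer_eq_top_iff, eq_top_iff, ← hfac]
    refine sup_le ((le_sup_left : N ≤ K).trans le_normalizer) fun x hx => ?_
    have h1 : x ∈ normalizer (N : Set X) := by rw [normalizer_eq_top]; trivial
    exact mem_normalizer_of_conj fun y hy => by
      have h2 : (MulAut.conj x).toMonoidHom y ∈ K.map (MulAut.conj x).toMonoidHom := mem_map_of_mem _ hy
      rwa [hK, Subgroup.map_sup, CfsgLib.Transfer.map_conj_eq_self_iff.2 h1,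
        CfsgLib.Transfer.map_conj_eq_self_iff.2 hx] at h2
  have hKo : Odd (Nat.card K) := by
    rw [← Nat.coprime_two_right, hK, sup_comm]
    exact CfsgLib.Core.coprime_card_sup (fun x _ => by rw [normalizer_eq_top]; trivial)
      (Nat.coprime_two_right.2 (odd_of_pGroup hr hZp)) (Nat.coprime_two_right.2 hNo)
  set KG := K.map X.subtype with hKG
  have hKGo : Odd (Nat.card KG) := by rwa [hKG, card_map_of_injective X.subtype_injective]
  have hXK : X ≤ normalizer (KG : Set G) := fun x hx => mem_normalizer_of_conj (by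
    rintro _ ⟨y, hy, rfl⟩
    exact ⟨⟨x, hx⟩ * y * ⟨x, hx⟩⁻¹, hKn.conj_mem y hy _, rfl⟩)
  obtain ⟨Q, hQ, hQmax⟩ := σ.exists_invSylow hKGo hE.rot.ht hE.rot.hu hE.rot.ne hE.rot.comm
    (hTX.trans hXK) r
  set QG := (Q : Subgroup KG).map KG.subtype with hQG
  have hgQ : g ∈ normalizer (QG : Set G) := mem_normalizer_of_conj fun x hx =>
    hQmax _ (Q.2.map _ |>.map (MulAut.conj g).toMonoidHom)
      (by
        rintro _ ⟨w, hw, rfl⟩
        exact (mem_normalizer_iff.1 (hXK hE.hg) w).1 (map_subtype_le _ hw))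
      (hE.rot.four_normalizes_map hQ) (CfsgLib.Transfer.conj_mem_map_conj hx)
  -- the invariant conjugate of `Z`
  have hZK : (Z.map X.subtype) ≤ KG := map_mono le_sup_right
  obtain ⟨Q₁, hQ₁⟩ := (hZp.map X.subtype |>.comap_of_injective KG.subtype KG.subtype_injective :
    IsPGroup r ((Z.map X.subtype).subgroupOf KG)).exists_le_sylow
  obtain ⟨k, hk⟩ := MulAction.exists_smul_eq KG Q₁ Q
  have hkX : (k : G) ∈ X := (map_subtype_le K : KG ≤ X) k.2
  set R' := ((RX : Subgroup X).map X.subtype).map (MulAut.conj (k : G)).toMonoidHom with hR'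
  have hR'p : IsPGroup r R' := (RX.2.map _).map _
  have hZR' : centerThompsonAOf R' = (Z.map X.subtype).map (MulAut.conj (k : G)).toMonoidHom := by
    rw [hZ, CfsgLib.PLocal.centerThompsonA_map X.subtype _ (by rw [X.ker_subtype]; exact disjoint_bot_right),
      CfsgLib.PLocal.centerThompsonA_map (MulAut.conj (k : G)).toMonoidHom _
        (by rw [(MonoidHom.ker_eq_bot_iff _).2 (MulAut.conj _).injective]; exact disjoint_bot_right)]
  have hle : centerThompsonAOf R' ≤ QG := by
    rw [hZR']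
    rintro _ ⟨z, hz, rfl⟩
    have h1 : k * ⟨z, hZK hz⟩ * k⁻¹ ∈ (Q : Subgroup KG) := by
      rw [← hk]
      exact ⟨⟨z, hZK hz⟩, hQ₁ hz, rfl⟩
    exact ⟨_, h1, rfl⟩
  have hcard : Nat.card QG ≤ Nat.card (centerThompsonAOf R') := by
    rw [hZR', CfsgLib.Transfer.card_map_conj, card_map_of_injective X.subtype_injective]
    set QX := QG.subgroupOf X with hQX
    have hQGX : QG ≤ X := (map_subtype_le _).trans (map_subtype_le K)
    have hQXp : IsPGroup r QX := (Q.2.map KG.subtype).comap_of_injective _ X.subtype_injective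
    have hQXK : QX ≤ K := fun x hx => by
      obtain ⟨y, hy, e⟩ := (map_subtype_le _ hx : (x : G) ∈ KG)
      rwa [← X.subtype_injective e]
    have h1 : Nat.card (QX.map π) = Nat.card QX := by
      refine (Nat.card_congr (Equiv.ofBijective (π.subgroupMap QX)
        ⟨?_, π.subgroupMap_surjective QX⟩)).symm
      rw [← MonoidHom.ker_eq_bot_iff, eq_bot_iff]
      intro x hx
      exact Subtype.ext (disjoint_def.1 (CfsgLib.PLocal.disjoint_pPrime hQXp) x.2
        ((QuotientGroup.eq_one_iff _).1 (congrArg Subtype.val hx : π x = 1)))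
    calc Nat.card QG = Nat.card QX := (Nat.card_congr (subgroupOfEquivOfLe hQGX).toEquiv).symm
      _ = Nat.card (QX.map π) := h1.symm
      _ ≤ Nat.card (Z.map π) := by
        refine Subgroup.card_le_of_le ((map_mono hQXK).trans ?_)
        rw [hK, Subgroup.map_sup, show N.map π = ⊥ by
          rw [Subgroup.map_eq_bot_iff, QuotientGroup.ker_mk'], bot_sup_eq]
      _ ≤ Nat.card Z := Nat.le_of_dvd Nat.card_pos (Z.card_map_dvd π)
  have hZQ : centerThompsonAOf R' = QG := eq_of_le_of_card_ge hle hcard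
  have hR'0 : R' ≠ ⊥ := by
    intro e
    have h1 : Nat.card R' = 1 := by rw [e, card_bot]
    rw [hR', CfsgLib.Transfer.card_map_conj, card_map_of_injective X.subtype_injective] at h1
    obtain ⟨a, ha, ha1⟩ := (bot_or_exists_ne_one E).resolve_left hE.ne
    have h2 : (⟨a, hEX ha⟩ : X) ∈ (RX : Subgroup X) :=
      hE'p.le_sylow_of_normal RX (show (⟨a, hEX ha⟩ : X) ∈ E' from ha)
    rw [(card_eq_one.1 h1), mem_bot] at h2
    exact ha1 (congrArg Subtype.val h2)
  have hinv : RotInv r (centerThompsonAOf R') t u g :=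
    { ne := CfsgLib.PLocal.centerThompsonA_ne_bot hR'p hR'0
      isP := hR'p.to_le (CfsgLib.PLocal.centerThompsonA_le _)
      rot := hE.rot
      ht := hZQ ▸ hQ (subset_closure (by simp))
      hu := hZQ ▸ hQ (subset_closure (by simp))
      hg := hZQ ▸ hgQ }
  -- maximality makes `R'` a Sylow subgroup
  have hν : ν (centerThompsonAOf R') ≤ Nat.card R' := by
    refine (hmax _ ⟨t, u, g, hinv⟩).trans ?_
    rw [hR', CfsgLib.Transfer.card_map_conj, card_map_of_injective X.subtype_injective,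
      RX.card_eq_multiplicity]
  obtain ⟨P, hP⟩ := hR'p.exists_le_sylow
  have hPR : (P : Subgroup G) = R' := by
    by_contra hne
    have hlt := CfsgLib.Transfer.lt_inf_normalizer P.2 (lt_of_le_of_ne hP (Ne.symm hne))
    have hN' : (P : Subgroup G) ⊓ normalizer (R' : Set G) ≤
        normalizer (centerThompsonAOf R' : Set G) :=
      inf_le_right.trans (CfsgLib.PLocal.normalizer_le_normalizer_centerThompsonA R')
    obtain ⟨S, hS⟩ := ((P.2.to_le inf_le_left).comap_of_injective _
      (normalizer (centerThompsonAOf R' : Set G)).subtype_injective :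
      IsPGroup r (((P : Subgroup G) ⊓ normalizer (R' : Set G)).subgroupOf
        (normalizer (centerThompsonAOf R' : Set G)))).exists_le_sylow
    have h1 := Subgroup.card_le_of_le hS
    replace h1 := (Nat.card_congr (subgroupOfEquivOfLe hN').toEquiv).symm.le.trans h1
    rw [S.card_eq_multiplicity] at h1
    exact absurd (h1.trans hν) (not_le.2 (CfsgLib.Transfer.card_lt_of_lt hlt))
  refine ⟨P, t, u, g, hPR ▸ hR'0, hE.rot, ?_, ?_, ?_⟩ <;> rw [hPR]
  exacts [hinv.ht, hinv.hu, hinv.hg]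

end Setting

end CfsgLib.GW
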