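import Cfsg.Agent.Lib.GW.ZJData
import Cfsg.Agent.S1279
import Cfsg.Agent.S0217

/-!
# The signalizer functor on `Ω₁(Z(J(R)))`

The functor `a ↦ O_{r'}(C(a))` gives a proper subgroup containing `N(Z(J(R)))` and every `C(a)`.
-/

set_option autoImplicit false

namespace CfsgLib.GW

open Subgroup Cfsg
open CfsgLib.Signalizer (involution_sq involution_inv involution_ne_one orderOf_eq_two_of orderOf_conj)

universe u

variable {G : Type u} [Group G] [Finite G]

namespace ZJData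

variable {r : ℕ} [Fact r.Prime] (d : ZJData G r)

theorem A_odd (hr : r ≠ 2) : Odd (Nat.card d.A) := Setting.odd_of_pGroup hr d.A_isPGroup

theorem four_le_normalizer_A : four d.t d.u ≤ normalizer (d.A : Set G) :=
  d.four_le_N.trans d.normalizer_le_normalizer_A

theorem comm_A {a b : G} (ha : a ∈ d.A) (hb : b ∈ d.A) : Commute a b :=
  congrArg Subtype.val (d.A_elementary.1.is_comm.comm ⟨a, ha⟩ ⟨b, hb⟩)

theorem conj_g_mem {a : G} (ha : a ∈ d.A) : d.g * a * d.g⁻¹ ∈ d.A :=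
  (mem_normalizer_iff.1 (d.normalizer_le_normalizer_A d.hg) a).1 ha

/-- The fixed points of `t` on `A` are not trivial. -/
theorem exists_fixed (σ : Setting G) (hr : r ≠ 2) :
    ∃ e ∈ d.A, e ≠ 1 ∧ Commute e d.t := by
  by_contra hno
  push Not at hno
  obtain ⟨a, ha, ha1⟩ := (bot_or_exists_ne_one d.A).resolve_left d.A_ne_bot
  have hat : ¬ Commute a d.t := hno a ha ha1
  obtain ⟨x, hx, hx1, h⟩ := σ.exists_fixed_other (d.A_odd hr) d.rot.ht d.rot.hu d.rot.ne d.rot.comm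
    d.four_le_normalizer_A ha hat
  have hconj : ∀ {b w : G}, b ∈ d.A → b ≠ 1 → Commute b w →
      d.g * b * d.g⁻¹ ∈ d.A ∧ d.g * b * d.g⁻¹ ≠ 1 ∧ Commute (d.g * b * d.g⁻¹) (d.g * w * d.g⁻¹) :=
    fun hb hb1 hbw => ⟨d.conj_g_mem hb, fun e => hb1 (conj_eq_one_iff.1 e),
      hbw.map (MulAut.conj d.g).toMonoidHom⟩
  have hgtu : d.g * (d.t * d.u) * d.g⁻¹ = d.t := by
    rw [show d.g * (d.t * d.u) * d.g⁻¹ = d.g * d.t * d.g⁻¹ * (d.g * d.u * d.g⁻¹) by group,
      d.rot.conj1, d.rot.conj2, ← mul_assoc, ← d.rot.comm.eq, mul_assoc,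
      involution_sq d.rot.hu, mul_one]
  rcases h with h | h
  · obtain ⟨h1, h2, h3⟩ := hconj hx hx1 h
    rw [d.rot.conj2] at h3
    obtain ⟨h4, h5, h6⟩ := hconj h1 h2 h3
    rw [hgtu] at h6
    exact hno _ h4 h5 h6
  · obtain ⟨h1, h2, h3⟩ := hconj hx hx1 h
    rw [hgtu] at h3
    exact hno _ h1 h2 h3

/-- `|A| ≥ r³`. -/
theorem card_A (σ : Setting G) (hr : r ≠ 2) : r ^ 3 ≤ Nat.card d.A := by
  set F : G → Subgroup G := fun w => d.A ⊓ centralizer ({w} : Set G) with hF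
  obtain ⟨e, he, he1, het⟩ := d.exists_fixed σ hr
  have hge : ∀ {w : G}, (∃ b ∈ d.A, b ≠ 1 ∧ Commute b w) → r ≤ Nat.card (F w) := by
    rintro w ⟨b, hb, hb1, hbw⟩
    have hp : IsPGroup r (F w) := d.A_isPGroup.to_le inf_le_left
    haveI : Nontrivial (F w) := ⟨⟨⟨b, hb, mem_centralizer_of_commute hbw⟩, 1,
      fun h => hb1 (congrArg Subtype.val h)⟩⟩
    obtain ⟨k, hk, hcard⟩ := hp.nontrivial_iff_card.1 inferInstance
    rw [hcard]
    exact Nat.le_self_pow hk.ne' r
  have h1 : r ≤ Nat.card (F d.t) := hge ⟨e, he, he1, het⟩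
  have heu : Commute (d.g * e * d.g⁻¹) d.u := d.rot.conj1 ▸ het.map (MulAut.conj d.g).toMonoidHom
  have h2 : r ≤ Nat.card (F d.u) := hge ⟨_, d.conj_g_mem he, fun h => he1 (conj_eq_one_iff.1 h), heu⟩
  have h3 : r ≤ Nat.card (F (d.t * d.u)) := hge ⟨_, d.conj_g_mem (d.conj_g_mem he),
    fun h => he1 (conj_eq_one_iff.1 (conj_eq_one_iff.1 h)),
    d.rot.conj2 ▸ heu.map (MulAut.conj d.g).toMonoidHom⟩
  have hinj : Function.Injective (fun p : F d.t × F d.u × F (d.t * d.u) =>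
      (⟨(p.1 : G) * p.2.1 * p.2.2, mul_mem (mul_mem p.1.2.1 p.2.1.2.1) p.2.2.2.1⟩ : d.A)) := by
    have hinvt : ∀ {x : G}, x ∈ d.A → Commute x d.u → d.t * x * d.t⁻¹ = x⁻¹ := fun hx hxu =>
      σ.inverts (d.A_odd hr) d.rot.hu d.rot.ht d.rot.ne.symm d.rot.comm.symm
        (d.four_le_normalizer_A (subset_closure (by simp))) hx hxu
    have hinvt' : ∀ {x : G}, x ∈ d.A → Commute x (d.t * d.u) → d.t * x * d.t⁻¹ = x⁻¹ := fun hx hxu =>
      σ.inverts (d.A_odd hr) d.rot.prod_order d.rot.ht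
        (fun h => involution_ne_one d.rot.hu (mul_eq_left.1 h))
        ((Commute.refl d.t).mul_right d.rot.comm).symm
        (d.four_le_normalizer_A (subset_closure (by simp))) hx hxu
    rintro ⟨a, b, c⟩ ⟨a', b', c'⟩ he
    have he' : (a : G) * b * c = a' * b' * c' := congrArg Subtype.val he
    have hk : ∀ (a : F d.t) (b : F d.u) (c : F (d.t * d.u)),
        d.t * ((a : G) * b * c) * d.t⁻¹ = a * (b : G)⁻¹ * (c : G)⁻¹ := by
      intro a b c
      rw [show d.t * ((a : G) * b * c) * d.t⁻¹ =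
          (d.t * a * d.t⁻¹) * (d.t * b * d.t⁻¹) * (d.t * c * d.t⁻¹) by group,
        conj_eq_of_commute (commute_of_mem_centralizer a.2.2).symm,
        hinvt b.2.1 (commute_of_mem_centralizer b.2.2), hinvt' c.2.1 (commute_of_mem_centralizer c.2.2)]
    have he2 : (a : G) * (b : G)⁻¹ * (c : G)⁻¹ = a' * (b' : G)⁻¹ * (c' : G)⁻¹ := by rw [← hk, ← hk, he']
    have key : ∀ (a a' b b' c c' : d.A), a * b * c = a' * b' * c' → a * b⁻¹ * c⁻¹ = a' * b'⁻¹ * c'⁻¹ →
        (a * a'⁻¹) * (a * a'⁻¹) = 1 := by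
      intro a a' b b' c c' e1 e2
      letI : CommGroup d.A :=
        { (inferInstance : Group d.A) with mul_comm := fun p q => Subtype.ext (d.comm_A p.2 q.2).eq }
      have h4 : (a * b * c) * (a * b⁻¹ * c⁻¹) = (a' * b' * c') * (a' * b'⁻¹ * c'⁻¹) := by rw [e1, e2]
      have h5 : a * a = a' * a' := by
        simpa [mul_comm, mul_assoc, mul_left_comm] using h4
      rw [show (a * a'⁻¹) * (a * a'⁻¹) = (a * a) * (a' * a')⁻¹ by
        rw [mul_inv, mul_mul_mul_comm], h5, mul_inv_cancel]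
    have ha : (a : G) * (a' : G)⁻¹ = 1 := by
      refine eq_one_of_inv_self (odd_orderOf_of_mem (d.A_odd hr) (mul_mem a.2.1 (inv_mem a'.2.1))) ?_
      have h4 := congrArg Subtype.val (key ⟨a, a.2.1⟩ ⟨a', a'.2.1⟩ ⟨b, b.2.1⟩ ⟨b', b'.2.1⟩
        ⟨c, c.2.1⟩ ⟨c', c'.2.1⟩ (Subtype.ext he') (Subtype.ext he2))
      exact inv_eq_of_mul_eq_one_right h4
    have ha' : (a : G) = a' := mul_inv_eq_one.1 ha
    rw [ha', mul_assoc, mul_assoc] at he'
    have he'' : (b : G) * c = b' * c' := mul_left_cancel he'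
    have hb : (b : G)⁻¹ * b' = (c : G) * (c' : G)⁻¹ := by
      rw [inv_mul_eq_iff_eq_mul, ← mul_assoc, he'']; group
    have hz : (b : G)⁻¹ * b' = 1 := by
      have hzA : (b : G)⁻¹ * b' ∈ d.A := mul_mem (inv_mem b.2.1) b'.2.1
      have hu' : Commute ((b : G)⁻¹ * b') d.u :=
        (commute_of_mem_centralizer b.2.2).inv_left.mul_left (commute_of_mem_centralizer b'.2.2)
      have hv : Commute ((b : G)⁻¹ * b') (d.t * d.u) := by
        rw [hb]
        exact (commute_of_mem_centralizer c.2.2).mul_left (commute_of_mem_centralizer c'.2.2).inv_left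
      have ht' : Commute ((b : G)⁻¹ * b') d.t := by
        have := hv.mul_right hu'
        rwa [mul_assoc, involution_sq d.rot.hu, mul_one] at this
      exact σ.fpf d.t d.u _ d.rot.ht d.rot.hu d.rot.ne d.rot.comm
        (odd_orderOf_of_mem (d.A_odd hr) hzA) ht' hu'
    have hb' : (b : G) = b' := inv_mul_eq_one.1 hz
    rw [hb'] at he''
    exact Prod.ext (Subtype.ext ha') (Prod.ext (Subtype.ext hb') (Subtype.ext (mul_left_cancel he'')))
  have := Nat.card_le_card_of_injective _ hinj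
  rw [Nat.card_prod, Nat.card_prod] at this
  calc r ^ 3 = r * (r * r) := by ring
    _ ≤ _ := le_trans (Nat.mul_le_mul h1 (Nat.mul_le_mul h2 h3)) this

/-- The closure of the functor. -/
noncomputable def W : Subgroup G :=
  ⨆ b : {a : G // a ∈ d.A ∧ a ≠ 1}, centralizerPPrimeCore r (b : G)

/-- The proper subgroup containing `N(Z(J(R)))` and the centralisers of `A`. -/
noncomputable def M : Subgroup G :=
  @ite _ (d.W = ⊥) (_root_.Classical.propDecidable _) (normalizer (d.Z : Set G)) (normalizer (d.W : Set G))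

theorem conj_core_mem {n a x : G} (hx : x ∈ centralizerPPrimeCore r a) :
    n * x * n⁻¹ ∈ centralizerPPrimeCore r (n * a * n⁻¹) := by
  set C := centralizer ({a} : Set G)
  set C' := centralizer ({n * a * n⁻¹} : Set G)
  have hCC : C.map (MulAut.conj n).toMonoidHom = C' := by
    refine le_antisymm ?_ fun y hy => ⟨n⁻¹ * y * n, mem_centralizer_of_commute ?_, by simp [mul_assoc]⟩
    · rintro _ ⟨y, hy, rfl⟩
      exact mem_centralizer_of_commute ((commute_of_mem_centralizer hy).map (MulAut.conj n).toMonoidHom)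
    · have h := (commute_of_mem_centralizer hy).map (MulAut.conj n⁻¹).toMonoidHom
      simpa [mul_assoc] using h
  let e : C ≃* C' :=
    (C.equivMapOfInjective _ (MulAut.conj n).injective).trans (MulEquiv.subgroupCongr hCC)
  obtain ⟨y, hy, rfl⟩ := hx
  exact ⟨e y, CfsgLib.Core.map_pPrimeCore_le e.toMonoidHom e.surjective ⟨y, hy, rfl⟩, rfl⟩

theorem normalizer_A_le_normalizer_W : normalizer (d.A : Set G) ≤ normalizer (d.W : Set G) := by
  intro n hn
  refine mem_normalizer_of_conj fun x hx => ?_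
  have key : d.W.map (MulAut.conj n).toMonoidHom ≤ d.W := by
    rw [W, Subgroup.map_iSup]
    refine iSup_le fun b => le_iSup_of_le
      (⟨n * b.1 * n⁻¹, (mem_normalizer_iff.1 hn _).1 b.2.1, fun e => b.2.2 (conj_eq_one_iff.1 e)⟩ :
        {a : G // a ∈ d.A ∧ a ≠ 1}) ?_
    rintro _ ⟨y, hy, rfl⟩
    exact conj_core_mem hy
  exact key (CfsgLib.Transfer.conj_mem_map_conj hx)

theorem normalizer_le_M : normalizer (d.Z : Set G) ≤ d.M := by
  rw [M]; split
  · exact le_rfl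
  · exact d.normalizer_le_normalizer_A.trans d.normalizer_A_le_normalizer_W

theorem core_le_M {a : G} (ha : a ∈ d.A) (ha1 : a ≠ 1) : centralizerPPrimeCore r a ≤ d.M := by
  have h : centralizerPPrimeCore r a ≤ d.W :=
    le_iSup_of_le (⟨a, ha, ha1⟩ : {a : G // a ∈ d.A ∧ a ≠ 1}) le_rfl
  rw [M]; split
  · next h0 => rw [h0] at h; exact h.trans bot_le
  · exact h.trans le_normalizer

theorem centralizer_le_M (σ : Setting G) (hr : r ≠ 2) {a : G} (ha : a ∈ d.A) (ha1 : a ≠ 1) :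
    centralizer ({a} : Set G) ≤ d.M :=
  (d.centralizer_le σ hr ha ha1).trans (sup_le (d.core_le_M ha ha1) d.normalizer_le_M)

theorem not_dvd_W (σ : Setting G) (hr : r ≠ 2) : ¬ r ∣ Nat.card d.W := by
  have hA2 : r ^ 2 ≤ Nat.card d.A :=
    (Nat.pow_le_pow_right (Fact.out : r.Prime).pos (by norm_num)).trans (d.card_A σ hr)
  obtain ⟨⟨h1, h2, h3, h4⟩, h5⟩ := Cfsg.Agent.S1279.result r d.A d.A_elementary hA2
    fun a ha ha1 => σ.solvable_centralizer (odd_orderOf_of_mem (d.A_odd hr) ha) ha1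
  exact (Cfsg.Agent.S0217.result d.A (fun a ha b hb => (d.comm_A ha hb).eq) d.A_elementary.2
    (d.card_A σ hr) (fun a => centralizerPPrimeCore r a) h1 h2 h3 h5 h4).1

theorem M_ne_top [IsSimpleGroup G] (σ : Setting G) (hr : r ≠ 2) : d.M ≠ ⊤ := by
  have h2 : 2 ∣ Nat.card G := by
    have := orderOf_dvd_natCard (G := G) d.t
    rwa [d.rot.ht] at this
  rw [M]; split
  · intro h
    rw [normalizer_eq_top_iff] at h
    rcases h.eq_bot_or_eq_top with e | e
    · exact CfsgLib.PLocal.centerThompsonA_ne_bot (p := r) d.R.2 d.ne e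
    · have hp : IsPGroup r (d.Z) := d.R.2.to_le (CfsgLib.PLocal.centerThompsonA_le _)
      have ho := Setting.odd_of_pGroup hr hp
      rw [e, card_top] at ho
      exact (Nat.not_even_iff_odd.2 ho) (even_iff_two_dvd.2 h2)
  · next h0 =>
    intro h
    rw [normalizer_eq_top_iff] at h
    rcases h.eq_bot_or_eq_top with e | e
    · exact h0 e
    · refine d.not_dvd_W σ hr ?_
      rw [e, card_top]
      obtain ⟨a, ha, ha1⟩ := (bot_or_exists_ne_one d.A).resolve_left d.A_ne_bot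
      obtain ⟨k, hk, hcard⟩ := d.A_isPGroup.nontrivial_iff_card.1
        ⟨⟨⟨a, ha⟩, 1, fun e => ha1 (congrArg Subtype.val e)⟩⟩
      exact (hcard ▸ dvd_pow_self r hk.ne').trans (Subgroup.card_subgroup_dvd_card d.A)

end ZJData

end CfsgLib.GW
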