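import Cfsg.Agent.Lib.GW.Statement
import Cfsg.Agent.Lib.GW.FreeFourGroups
import Cfsg.Agent.Lib.GW.Dne.Basic
import Cfsg.Agent.Lib.Known.GLFourTwoFacts
import Cfsg.Agent.Lib.Classical.SmallIso

/-!
# Gorenstein–Walter: from the minimal counterexample to the statement

In a perfect group with trivial core and dihedral Sylow `2`-subgroups a non-trivial normal
subgroup contains every involution, hence a Sylow `2`-subgroup, hence is everything.  So the
minimal counterexample is simple, and the two cases (four-groups with or without fixed points of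
odd order) finish it.
-/

set_option autoImplicit false
set_option linter.style.haveILetI false

namespace CfsgLib.GW.Top

open Subgroup DihedralGroup CfsgLib.GW
open CfsgLib.TwoGroups CfsgLib.TwoGroups.Dihedral

universe u

variable {X : Type u} [Group X] [Finite X]

/-- A perfect group has no subgroup of index two. -/
theorem index_ne_two [Group.IsPerfect X] (H : Subgroup X) : H.index ≠ 2 := by
  intro hH
  have : H.Normal := Subgroup.normal_of_index_eq_two hH
  haveI : Group.IsPerfect (X ⧸ H) :=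
    Group.IsPerfect.ofSurjective (QuotientGroup.mk'_surjective H)
  haveI : Nontrivial (X ⧸ H) := Finite.one_lt_card_iff_nontrivial.1 (by
    rw [← Subgroup.index_eq_card, hH]; norm_num)
  have : Fact (Nat.Prime 2) := ⟨Nat.prime_two⟩
  haveI : IsCyclic (X ⧸ H) := isCyclic_of_prime_card (p := 2) (by rw [← Subgroup.index_eq_card, hH])
  exact Group.IsPerfect.not_isSolvable (X ⧸ H) (inferInstance : Group.IsSolvable (X ⧸ H))

/-- A perfect group with trivial core and dihedral Sylow `2`-subgroups is simple. -/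
theorem isSimpleGroup [Group.IsPerfect X] {S : Sylow 2 X} {m : ℕ} {f : DihedralGroup (2 ^ m) →* X}
    (hf : Function.Injective f) (hS : f.range = (S : Subgroup X)) (hm : 1 ≤ m)
    (hO : Cfsg.oddCore X = ⊥) : IsSimpleGroup X := by
  have hone := all_conj_of_no_index_two hf hS hm index_ne_two
  have hto : orderOf (f (r (half m))) = 2 := orderOf_half hf hm
  haveI : Nontrivial X := ⟨⟨_, 1, CfsgLib.Signalizer.involution_ne_one hto⟩⟩
  refine ⟨fun N hN => or_iff_not_imp_left.2 fun hN1 => ?_⟩
  haveI := hN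
  have heven : 2 ∣ Nat.card N := by
    by_contra h2
    refine hN1 (le_bot_iff.1 (hO ▸ CfsgLib.Core.le_pPrimeCore ?_))
    exact Nat.coprime_two_right.2 (Nat.odd_iff.2 (by omega))
  have : Fact (Nat.Prime 2) := ⟨Nat.prime_two⟩
  obtain ⟨s, hs⟩ := exists_prime_orderOf_dvd_card' 2 heven
  rw [← Subgroup.orderOf_coe] at hs
  have hall : ∀ z : X, orderOf z = 2 → z ∈ N := by
    intro z hz
    obtain ⟨c, hc⟩ := isConj_iff.1 (hone (s : X) z hs hz)
    exact hc ▸ hN.conj_mem _ s.2 c
  have hsr : ∀ i, f (sr i) ∈ N := fun i => hall _ (by rw [orderOf_injective f hf, orderOf_sr])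
  have hSN : (S : Subgroup X) ≤ N := by
    rw [← hS]
    rintro _ ⟨(i | i), rfl⟩
    · rw [show (r i : DihedralGroup (2 ^ m)) = sr 0 * sr i by rw [sr_mul_sr, sub_zero], map_mul]
      exact mul_mem (hsr 0) (hsr i)
    · exact hsr i
  have hodd : Odd N.index := Nat.odd_iff.2 (by
    have h : ¬ 2 ∣ N.index := fun h2 => S.not_dvd_index (h2.trans (Subgroup.index_dvd_of_le hSN))
    omega)
  by_contra hne
  haveI : Group.IsPerfect (X ⧸ N) :=
    Group.IsPerfect.ofSurjective (QuotientGroup.mk'_surjective N)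
  haveI : Nontrivial (X ⧸ N) := QuotientGroup.nontrivial_iff.2 hne
  exact Group.IsPerfect.not_isSolvable (X ⧸ N)
    (CfsgLib.OddLocal.FTFinal.odd_order_solvable (by rw [← Subgroup.index_eq_card]; exact hodd))

/-- The classification of perfect groups with dihedral Sylow `2`-subgroups from the two cases of
the minimal counterexample. -/
theorem gw_of_dne
    (hD : ∀ (G : Type u) [Group G] [Finite G], Dne.DneConclusion G) : GWStatement.{u} := by
  suffices H : ∀ (k : ℕ) (X : Type u) [Group X] [Finite X] [Group.IsPerfect X] (S : Sylow 2 X) (n : ℕ),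
      Nat.card X = k → 2 ≤ n → Nonempty ((S : Subgroup X) ≃* DihedralGroup n) → Dne.Known X from
    fun X _ _ _ S n hn hS => H _ X S n rfl hn hS
  intro k
  induction k using Nat.strong_induction_on with
  | _ k ih =>
  intro X _ _ _ S n hk hn hS
  obtain ⟨eS⟩ := hS
  have : Fact (Nat.Prime 2) := ⟨Nat.prime_two⟩
  set π := QuotientGroup.mk' (Cfsg.oddCore X) with hπ
  haveI : Group.IsPerfect (X ⧸ Cfsg.oddCore X) :=
    Group.IsPerfect.ofSurjective (QuotientGroup.mk'_surjective (Cfsg.oddCore X))
  let S' := S.mapSurjective (QuotientGroup.mk'_surjective (Cfsg.oddCore X))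
  let ψ : (S : Subgroup X) →* (S' : Subgroup (X ⧸ Cfsg.oddCore X)) :=
    (π.comp (S : Subgroup X).subtype).codRestrict _ fun p => mem_map_of_mem _ p.2
  have hψ : Function.Bijective ψ := by
    refine ⟨(injective_iff_map_eq_one _).2 fun p hp => ?_, ?_⟩
    · refine Subtype.ext (Subgroup.disjoint_def.1 (disjoint_iff.2 ?_) p.2
        ((QuotientGroup.eq_one_iff _).1 (congrArg Subtype.val hp)))
      exact inf_eq_bot_of_coprime ((IsPGroup.iff_card.1 S.2).choose_spec ▸
        ((CfsgLib.Core.coprime_card_pPrimeCore 2 X).symm.pow_left _))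
    · rintro ⟨_, a, ha, rfl⟩
      exact ⟨⟨a, ha⟩, rfl⟩
  have hS' : Nonempty ((S' : Subgroup (X ⧸ Cfsg.oddCore X)) ≃* DihedralGroup n) :=
    ⟨(MulEquiv.ofBijective ψ hψ).symm.trans eS⟩
  have hO : Cfsg.oddCore (X ⧸ Cfsg.oddCore X) = ⊥ :=
    CfsgLib.Core.pPrimeCore_quotient_pPrimeCore 2 X
  obtain ⟨m, f, hm, -, hf, hfS⟩ := exists_model hn hS'.some
  haveI := isSimpleGroup hf hfS hm hO
  have hle : Nat.card (X ⧸ Cfsg.oddCore X) ≤ k := by
    rw [← Subgroup.index_eq_card, ← hk]
    exact Nat.le_of_dvd Nat.card_pos (Subgroup.index_dvd_card _)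
  have σ : Dne.Hyp (X ⧸ Cfsg.oddCore X) :=
    { S := S', n := m, f := f, inj := hf, range := hfS, pos := hm, simple := inferInstance
      one_class := all_conj_of_no_index_two hf hfS hm index_ne_two
      known := fun Y hY hper P j hj hP => by
        haveI := hper
        refine ih (Nat.card Y) (lt_of_lt_of_le ?_ hle) Y P j rfl hj hP
        exact (Subgroup.card_le_card_group Y).lt_of_ne fun e => hY (Subgroup.eq_top_of_card_eq Y e) }
  by_cases hfix : ∃ t u g : X ⧸ Cfsg.oddCore X, Rot t u g ∧ Dne.D t u ≠ ⊥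
  · exact Or.inr (hD _ σ hfix)
  obtain ⟨F, hF1, hF2, hodd, ⟨e⟩⟩ := psl2_of_free_four_groups S' n hn hS'
    (fun t u x ht hu hne hc hx hxt hxu => by
      obtain ⟨g, hg⟩ := σ.exists_rot_of_pair ht hu hne hc
      by_contra hx1
      refine hfix ⟨t, u, g, hg, fun hbot => hx1 ?_⟩
      exact Subgroup.mem_bot.1 (hbot ▸ (σ.mem_D ht).2 ⟨hxt, hxu, hx⟩))
  refine Or.inl ⟨F, hF1, hF2, hodd, ?_, ⟨e⟩⟩
  by_contra h3
  have hF3 : Fintype.card F = 3 := by
    have := Fintype.one_lt_card (α := F)
    obtain ⟨d, hd⟩ := hodd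
    omega
  have hsol : Group.IsSolvable (Matrix.ProjectiveSpecialLinearGroup (Fin 2) F) :=
    CfsgLib.Known.GLFourTwo.isSolvable_of_lt_sixty (by
      have h := CfsgLib.Classical.Two.card_PSL_two (F := F)
      rw [hF3] at h
      norm_num at h
      omega)
  haveI : Nontrivial (X ⧸ Cfsg.oddCore X) := IsSimpleGroup.toNontrivial
  exact Group.IsPerfect.not_isSolvable (X ⧸ Cfsg.oddCore X)
    (Group.isSolvable_of_surjective (f := e.symm.toMonoidHom) e.symm.surjective)

end CfsgLib.GW.Top
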