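import Cfsg.Agent.Lib.GW.Local
import Cfsg.Agent.Lib.PGroups.Omega
import Cfsg.Agent.Lib.LocalEvenB.ReplacementOmega
import Cfsg.Agent.Lib.LocalEven.ThompsonMeasure
import Cfsg.Agent.Lib.Fusion.JTools
import Cfsg.Agent.Lib.PLocal.SLTwo.ZJFusion

/-!
# The subgroup `Ω₁(Z(J(R)))` and its centralisers
-/

set_option autoImplicit false

namespace CfsgLib.GW

open Subgroup Cfsg
open CfsgLib.Signalizer (involution_sq involution_inv involution_ne_one orderOf_eq_two_of orderOf_conj)
open CfsgLib.LocalEven.JMeasure (thompson_le)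

universe u

variable {G : Type u} [Group G] [Finite G]

/-- A Sylow subgroup with a rotated four-group normalising `Z(J(R))`. -/
structure ZJData (G : Type u) [Group G] (r : ℕ) where
  R : Sylow r G
  t : G
  u : G
  g : G
  ne : (R : Subgroup G) ≠ ⊥
  rot : Rot t u g
  ht : t ∈ normalizer (centerThompsonAOf (R : Subgroup G) : Set G)
  hu : u ∈ normalizer (centerThompsonAOf (R : Subgroup G) : Set G)
  hg : g ∈ normalizer (centerThompsonAOf (R : Subgroup G) : Set G)

namespace ZJData

variable {r : ℕ} [Fact r.Prime] (d : ZJData G r)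

/-- `Z(J(R))`. -/
abbrev Z : Subgroup G := centerThompsonAOf (d.R : Subgroup G)

/-- `Ω₁(Z(J(R)))`. -/
def A : Subgroup G := omegaOne r d.Z

theorem Z_comm : IsMulCommutative d.Z := by
  rw [isMulCommutative_iff]
  intro a b
  apply Subtype.ext
  exact (mem_centralizer_iff.1 b.2.2 a a.2.1)

theorem A_le : d.A ≤ d.Z := CfsgLib.PGroups.omegaOne_le _

theorem A_elementary : IsElementaryAbelian r d.A :=
  haveI := d.Z_comm
  CfsgLib.PGroups.isElementaryAbelian_omegaOne

theorem A_isPGroup : IsPGroup r d.A := d.R.2.to_le (d.A_le.trans (CfsgLib.PLocal.centerThompsonA_le _))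

theorem A_ne_bot : d.A ≠ ⊥ := by
  refine CfsgLib.PGroups.omegaOne_ne_bot ?_
  have h0 := CfsgLib.PLocal.centerThompsonA_ne_bot (p := r) d.R.2 d.ne
  obtain ⟨k, hk, hcard⟩ := ((d.R.2.to_le (CfsgLib.PLocal.centerThompsonA_le _)).nontrivial_iff_card).1
    ((nontrivial_iff_ne_bot _).2 h0)
  exact hcard ▸ dvd_pow_self r hk.ne'

theorem normalizer_le_normalizer_A : normalizer (d.Z : Set G) ≤ normalizer (d.A : Set G) :=
  CfsgLib.LocalEvenB.normalizer_le_normalizer_omegaOne _

theorem four_le_N : four d.t d.u ≤ normalizer (d.Z : Set G) := four_le d.ht d.hu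

theorem A_le_thompson : d.A ≤ thompsonSubgroupAOf (d.R : Subgroup G) := d.A_le.trans inf_le_left

theorem thompson_le_centralizer {a : G} (ha : a ∈ d.A) :
    thompsonSubgroupAOf (d.R : Subgroup G) ≤ centralizer ({a} : Set G) := fun x hx =>
  mem_centralizer_of_commute (mem_centralizer_iff.1 (d.A_le ha).2 x hx)

/-- A Sylow subgroup containing `J(R)` has the same `J`. -/
theorem thompson_eq {P : Sylow r G} (h : thompsonSubgroupAOf (d.R : Subgroup G) ≤ (P : Subgroup G)) :
    thompsonSubgroupAOf (P : Subgroup G) = thompsonSubgroupAOf (d.R : Subgroup G) := by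
  obtain ⟨c, hc⟩ := MulAction.exists_smul_eq G P d.R
  have hmap : (P : Subgroup G).map (MulAut.conj c).toMonoidHom = (d.R : Subgroup G) := by
    rw [← hc]; rfl
  have hab : CfsgLib.LocalEven.JMeasure.abOrd (P : Subgroup G) ≤
      CfsgLib.LocalEven.JMeasure.abOrd (d.R : Subgroup G) := by
    obtain ⟨B, hB⟩ := CfsgLib.LocalEven.JMeasure.exists_maxAb (P : Subgroup G)
    haveI := hB.2.1
    have h1 := CfsgLib.LocalEven.JMeasure.card_le_abOrd
      (show B.map (MulAut.conj c).toMonoidHom ≤ (d.R : Subgroup G) from hmap ▸ map_mono hB.1) inferInstance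
    rwa [CfsgLib.Transfer.card_map_conj, CfsgLib.LocalEven.JMeasure.card_eq_abOrd hB] at h1
  refine (eq_of_le_of_card_ge (CfsgLib.LocalEven.JMeasure.thompson_mono_of_eq h hab) ?_).symm
  rw [← hmap, ← CfsgLib.LocalEven.JMeasure.thompson_map_conj, CfsgLib.Transfer.card_map_conj]

theorem zj_eq {P : Subgroup G} (h : thompsonSubgroupAOf P = thompsonSubgroupAOf (d.R : Subgroup G)) :
    centerThompsonAOf P = d.Z := by
  rw [Z, centerThompsonAOf, centerThompsonAOf, h]

/-- A Sylow subgroup of the centraliser of `a` with the same `J`. -/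
theorem exists_sylow_cent {a : G} (ha : a ∈ d.A) :
    ∃ (Q : Sylow r (centralizer ({a} : Set G))) (P : Sylow r G),
      (Q : Subgroup (centralizer ({a} : Set G))).map (centralizer ({a} : Set G)).subtype ≤ P ∧
      thompsonSubgroupAOf (P : Subgroup G) = thompsonSubgroupAOf (d.R : Subgroup G) ∧
      thompsonSubgroupAOf ((Q : Subgroup (centralizer ({a} : Set G))).map
        (centralizer ({a} : Set G)).subtype) = thompsonSubgroupAOf (d.R : Subgroup G) := by
  set C := centralizer ({a} : Set G) with hC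
  obtain ⟨Q, hQ⟩ := ((d.R.2.to_le (thompson_le _)).comap_of_injective C.subtype C.subtype_injective :
    IsPGroup r ((thompsonSubgroupAOf (d.R : Subgroup G)).subgroupOf C)).exists_le_sylow
  have hJQ : thompsonSubgroupAOf (d.R : Subgroup G) ≤ (Q : Subgroup C).map C.subtype := fun x hx =>
    ⟨⟨x, d.thompson_le_centralizer ha hx⟩, hQ (show (⟨x, _⟩ : C) ∈ _ from hx), rfl⟩
  obtain ⟨P, hP⟩ := (Q.2.map C.subtype).exists_le_sylow
  have hJP := d.thompson_eq (hJQ.trans hP)
  refine ⟨Q, P, hP, hJP, ?_⟩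
  rw [← hJP]
  exact CfsgLib.Fusion.thompsonA_eq_of_le hP (le_top : (P : Subgroup G) ≤ ⊤) (hJP ▸ hJQ)

/-- `C(a) = O_{r'}(C(a)) N_{C(a)}(Z(J(R)))`. -/
theorem centralizer_le (σ : Setting G) (hr : r ≠ 2) {a : G} (ha : a ∈ d.A) (ha1 : a ≠ 1) :
    centralizer ({a} : Set G) ≤ centralizerPPrimeCore r a ⊔ normalizer (d.Z : Set G) := by
  set C := centralizer ({a} : Set G) with hC
  obtain ⟨Q, P, hQP, hP, hQ⟩ := d.exists_sylow_cent ha
  haveI := σ.solvable_centralizer (odd_orderOf_of_mem (Setting.odd_of_pGroup hr d.A_isPGroup) ha) ha1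
  have hfac := zj_factor hr (CfsgLib.PLocal.SLTwo.noQd_subgroup (σ.noQd hr) C) inferInstance Q
  have hZ : (centerThompsonAOf (Q : Subgroup C)).map C.subtype = d.Z := by
    rw [CfsgLib.PLocal.centerThompsonA_map C.subtype _ (by rw [C.ker_subtype]; exact disjoint_bot_right)]
    exact d.zj_eq hQ
  intro x hx
  have h1 : (⟨x, hx⟩ : C) ∈ pPrimeCore r C ⊔ normalizer (centerThompsonAOf (Q : Subgroup C) : Set C) :=
    hfac ▸ mem_top _
  have h2 : x ∈ (pPrimeCore r C ⊔ normalizer (centerThompsonAOf (Q : Subgroup C) : Set C)).map C.subtype :=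
    ⟨_, h1, rfl⟩
  rw [Subgroup.map_sup] at h2
  refine sup_le (le_sup_left : centralizerPPrimeCore r a ≤ _) ?_ h2
  refine ((le_normalizer_map C.subtype).trans ?_).trans le_sup_right
  rw [hZ]

end ZJData

end CfsgLib.GW
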